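import Cfsg.Agent.Lib.Compute.PermCert

/-! The sign masks vanishing at the pair, and the images of the axes under the edge element. -/

set_option autoImplicit false

namespace Cfsg.Agent.Co2Close

/-- A reduced basis. -/
def c0Basis : List ℕ := [10558, 21116, 36294, 72588, 138790, 267634, 525274, 1050548, 2101096, 4202192]

/-- The position of a mask. -/
def c0Pos (c : ℕ) : ℕ :=
  (bif c.testBit 13 then 512 else 0) +
  (bif c.testBit 14 then 256 else 0) +
  (bif c.testBit 15 then 128 else 0) +
  (bif c.testBit 16 then 64 else 0) +
  (bif c.testBit 17 then 32 else 0) +
  (bif c.testBit 18 then 16 else 0) +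
  (bif c.testBit 19 then 8 else 0) +
  (bif c.testBit 20 then 4 else 0) +
  (bif c.testBit 21 then 2 else 0) +
  (bif c.testBit 22 then 1 else 0)

/-- Images of the axes. -/
def sigA : List ℕ := [0xc88888888888888888848c8c, 0x8488888c8848888888888848, 0x4888888888888888888c8c8c, 0x884888888888884c88884888, 0xc888888888888888888c8c84, 0x888888888888c48884488888, 0x8888888888884c8884488888, 0x88848c488888888848888888, 0x88488888888888448888c888, 0x88c888888888884488884888, 0x88888888888844888c488888, 0x888888888888448884c88888, 0x8888c8884484888888888888, 0x8c8888848848888888888848, 0x88884888c484888888888888, 0x888848884c84888888888888, 0x8488888488488888888888c8, 0x888c84488888888848888888, 0x8884844888888888c8888888, 0x88884888448c888888888888, 0x888484c88888888848888888, 0x88488888888888c488884888, 0x8488888488c8888888888848, 0xc888888888888888888c848c]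

end Cfsg.Agent.Co2Close
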