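import Cfsg.Agent.Lib.Co2Recog.Close.Defs

/-!
Kernel checks for the last step of the recognition of the second Conway group.
-/

set_option autoImplicit false
set_option maxRecDepth 100000
set_option Elab.async false
set_option maxHeartbeats 0

namespace Cfsg.Agent.Co2Close

open Cfsg.Agent.Golay Cfsg.Agent.PermCert
open Cfsg.Agent.Co1Endgame (idElt okMo incr)

theorem basic_ok : okD tMask = true ∧ okD uMask = true ∧ okD bMask = true ∧ okD 8277246 = true ∧
    okD 1030138 = true ∧ trN (dMo tMask) oneM = 16 ∧ trN (dMo uMask) oneM = 24 ∧ trN (dMo bMask) oneM = 32 ∧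
    trN (dMo 8277246) oneM = 16 ∧ trN (dMo (8277246 ^^^ uMask)) oneM = 16 ∧
    trN (dMo 1030138) oneM = 16 ∧ trN (dMo (1030138 ^^^ bMask)) oneM = 16 ∧ uMask < 2 ^ 24 := by decide +kernel

theorem pi_ok : okMo (0, piElt) = true ∧ imgMask piElt sqMask = uMask := by decide +kernel

theorem roots_ok : nodeList.length = 11 ∧
    (nodeList.getD 0 ([], [], 0, [])).1 = [uMask] ∧ (nodeList.getD 0 ([], [], 0, [])).2.1 = [uMask] ∧
    (nodeList.getD 5 ([], [], 0, [])).1 = [bMask] ∧ (nodeList.getD 5 ([], [], 0, [])).2.1 = [bMask] := by
  decide +kernel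

theorem stab_ok : (stabList.all fun e =>
      validElt 5 24 e && inStabB [8388609, E8Cent.oMask, uMask] e) = true ∧
    incr (fun i => pack 5 (fun k => get 5 (stabList.getD i idElt).1 k) 24) 47 = true ∧
    stabList.length = 48 := by decide +kernel

theorem pair_trans_ok : (pairTrans.all fun e => validElt 5 24 e && inStabB [E8Cent.oMask] e) = true ∧
    incr (fun i => imgMask (pairTrans.getD i idElt) 8388609) 27 = true ∧ pairTrans.length = 28 := by
  decide +kernel

theorem dodec_trans_ok : (dodecTrans.all fun e => validElt 5 24 e && inStabB [E8Cent.oMask, 8388609] e) = true ∧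
    incr (fun i => imgMask (dodecTrans.getD i idElt) uMask) 239 = true ∧ dodecTrans.length = 240 := by
  decide +kernel

theorem cand_ok : (candList.all okM) = true := by decide +kernel

theorem perms_ok : stabList.all permChk = true := by decide +kernel

theorem diag_ok : diagChk = true := by decide +kernel

theorem nodes_ok : allBelow nodeOK 11 = true := by decide +kernel

end Cfsg.Agent.Co2Close
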