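import Cfsg.Agent.Lib.Co2Recog.Close.Model
import Cfsg.Agent.Lib.Co2Recog.Close.Checks

/-!
An involution commuting with the octad involution and with a dodecad sign change, whose product with the octad
involution has trace -8, is one of the listed candidates.
-/

set_option autoImplicit false
set_option maxRecDepth 20000

noncomputable section

namespace Cfsg.Agent.Co2Close

open Cfsg Cfsg.Agent.Golay Cfsg.Agent.Leech Cfsg.Agent.PermCert Finset
open Cfsg.Agent.E8Cent (piH piH_eq)
open Cfsg.Agent.Co2Recog.Layers (incl2 incl2_fix)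
open Cfsg.Agent.Co2Graph (pairSet)
open Cfsg.Agent.Co1Endgame (Mo idElt okMo prodEqB monoP idElt_perm incr incr_inj pack_congr halfBasis)
open scoped Pointwise

attribute [local irreducible] stabList pairTrans dodecTrans candList uMask piElt halfBasis spanList

/-- The mask of the pair. -/
abbrev pMaskP : ℕ := 8388609

theorem pairSet_eq : pairSet = maskSet pMaskP := by decide +kernel

/-- A monomial element of the group preserves the pair and its signs are trivial there. -/
theorem mono_facts {a : M24 × golayCode} (h : mono a • Spor.leechU = Spor.leechU) :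
    (a.1 : Equiv.Perm GolayPt) • pairSet = pairSet ∧ ∀ p ∈ pairSet, (a.2 : GolayPt → ZMod 2) p = 0 := by
  have hval : ∀ q, Spor.vecU q = if q ∈ pairSet then 4 else 0 := by decide +kernel
  have key : ∀ p ∈ pairSet, (a.1 : Equiv.Perm GolayPt).symm p ∈ pairSet ∧ (a.2 : GolayPt → ZMod 2) p = 0 := by
    intro p hp
    have e := congrFun (congrArg Subtype.val h) p
    rw [mono_smul] at e
    change sgn (a.2 : GolayPt → ZMod 2) p * Spor.vecU ((a.1 : Equiv.Perm GolayPt).symm p) = Spor.vecU p at e
    rw [hval, hval, if_pos hp] at e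
    by_cases hq : (a.1 : Equiv.Perm GolayPt).symm p ∈ pairSet
    · refine ⟨hq, ?_⟩
      rw [if_pos hq, sgn] at e
      by_contra hne
      rw [if_neg hne] at e
      norm_num at e
    · rw [if_neg hq, mul_zero] at e
      norm_num at e
  refine ⟨(Finset.eq_of_subset_of_card_le (fun p hp => ?_) (by rw [Finset.card_smul_finset])).symm,
    fun p hp => (key p hp).2⟩
  rw [← Finset.inv_smul_mem_iff]
  exact (key p hp).1

/-- The code of a monomial element of the group. -/
theorem exists_code {x : ↥Spor.Co2} {a : M24 × golayCode} (h : incl2 x = mono a) {e : Elt}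
    (hv : validElt 5 24 e = true) (ha : isAutB e = true) (hp : permOf e = (a.1 : Equiv.Perm GolayPt))
    (hb : pairB e = true) : ∃ m ∈ spanList halfBasis, okM (m, e) = true ∧ x = moEl (m, e) := by
  obtain ⟨-, hz⟩ := mono_facts (show mono a • Spor.leechU = Spor.leechU by rw [← h]; exact incl2_fix x)
  obtain ⟨m, hm, hmc, hme⟩ := Co1Endgame.half_span a.2.2
  have h23 : m.testBit 23 = false :=
    Nat.testBit_lt_two_pow (Co1Endgame.spanList_lt _ Co1Endgame.halfBasis_lt m hm)
  have hw : ofMask m = (a.2 : GolayPt → ZMod 2) := hme.resolve_right fun r => by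
    have e23 := congrFun r none
    rw [Pi.add_apply, Pi.one_apply, hz none (Finset.mem_insert_self _ _)] at e23
    simp only [ofMask, show idx (none : GolayPt) = 23 from rfl, h23] at e23
    exact absurd e23 (by decide)
  have h0 : m.testBit 0 = false := by
    have e0 := hz (some 0) (Finset.mem_insert_of_mem (Finset.mem_singleton_self _))
    rw [← hw, ofMask] at e0
    simpa [show idx (some 0 : GolayPt) = 0 by decide] using e0
  have hok : okM (m, e) = true := by
    simp only [okM, okMo, hv, ha, hb, inCode_iff.2 hmc, h0, h23, Bool.not_false, Bool.and_self]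
  refine ⟨m, hm, hok, incl2_inj ?_⟩
  rw [h, incl2_moEl hok]
  exact congrArg mono (Prod.ext (Subtype.ext hp.symm) (Subtype.ext hw.symm))

/-- An element commuting with the dodecad sign change is monomial. -/
theorem mono_of_comm {x : ↥Spor.Co2} (h : x * moEl (dMo uMask) = moEl (dMo uMask) * x) :
    ∃ a, incl2 x = mono a := by
  have hu := dMo_ok basic_ok.2.1
  have hp : okMo (0, piElt) = true := pi_ok.1
  set P := Co1Endgame.moEl (0, piElt) with hP
  have hc : P * Co1Endgame.moEl Co1Endgame.uMo = Co1Endgame.moEl (dMo uMask) * P :=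
    (Co1Endgame.prodEq_iff hp Co1Endgame.uMo_ok (okM_parts hu).1 hp).1 (by decide +kernel)
  have h' : toCo1 x * Co1Endgame.moEl (dMo uMask) = Co1Endgame.moEl (dMo uMask) * toCo1 x := by
    rw [← toCo1_moEl hu, ← map_mul, ← map_mul, h]
  obtain ⟨a, ha⟩ := Co1Endgame.cent_dodecad (x := P⁻¹ * toCo1 x * P) (by
    calc P⁻¹ * toCo1 x * P * Co1Endgame.moEl Co1Endgame.uMo
        = P⁻¹ * toCo1 x * (P * Co1Endgame.moEl Co1Endgame.uMo) := by group
      _ = P⁻¹ * (toCo1 x * Co1Endgame.moEl (dMo uMask)) * P := by rw [hc]; group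
      _ = P⁻¹ * (Co1Endgame.moEl (dMo uMask) * P) * (P⁻¹ * toCo1 x * P) := by rw [h']; group
      _ = _ := by rw [← hc]; group)
  have hx : piH (mono (monoP (0, piElt) hp) * mono a * (mono (monoP (0, piElt) hp))⁻¹) = piH (incl2 x) := by
    rw [map_mul, map_mul, map_inv, ha, ← Co1Endgame.moEl_eq hp, ← hP]
    show P * (P⁻¹ * toCo1 x * P) * P⁻¹ = toCo1 x
    group
  have hm : incl2 x ∈ crossStab := by
    have := mul_mem (mul_mem (mono_mem (monoP (0, piElt) hp)) (mono_mem a)) (inv_mem (mono_mem (monoP (0, piElt) hp)))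
    rcases piH_eq.1 hx with r | r <;> rw [r]
    · exact this
    · exact mul_mem this (mono_mem _)
  exact ⟨pairOf ⟨_, hm⟩, (mono_pairOf ⟨_, hm⟩).symm⟩

/-! ### The stabiliser of the pair, the octad and the dodecad -/

theorem stab_mem {i : ℕ} (hi : i < 48) : stabList.getD i idElt ∈ stabList ∧
    validElt 5 24 (stabList.getD i idElt) = true ∧
    permOf (stabList.getD i idElt) ∈ stabIn [pMaskP, E8Cent.oMask, uMask] := by
  have hm : stabList.getD i idElt ∈ stabList := by
    rw [List.getD_eq_getElem _ _ (stab_ok.2.2.symm ▸ hi)]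
    exact List.getElem_mem _
  have := List.all_eq_true.1 stab_ok.1 _ hm
  simp only [inStabB, List.all_cons, List.all_nil, Bool.and_eq_true, Nat.beq_eq, Bool.and_true] at this
  obtain ⟨hv, ha, ⟨-, h1⟩, ⟨-, h2⟩, -, h3⟩ := this
  refine ⟨hm, hv, permOf_mem_M24 hv ha, fun o ho => ?_⟩
  simp only [List.mem_cons, List.not_mem_nil, or_false] at ho
  rw [maskSet_imgMask hv]
  rcases ho with rfl | rfl | rfl
  · rw [h1]
  · rw [h2]
  · rw [h3]

theorem pair_trans_mem {i : ℕ} (hi : i < 28) : validElt 5 24 (pairTrans.getD i idElt) = true ∧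
    permOf (pairTrans.getD i idElt) ∈ stabIn [E8Cent.oMask] := by
  have hm : pairTrans.getD i idElt ∈ pairTrans := by
    rw [List.getD_eq_getElem _ _ (pair_trans_ok.2.2.symm ▸ hi)]
    exact List.getElem_mem _
  have := List.all_eq_true.1 pair_trans_ok.1 _ hm
  simp only [inStabB, List.all_cons, List.all_nil, Bool.and_eq_true, Nat.beq_eq, Bool.and_true] at this
  obtain ⟨hv, ha, -, h1⟩ := this
  refine ⟨hv, permOf_mem_M24 hv ha, fun o ho => ?_⟩
  rw [List.mem_singleton] at ho
  subst ho
  rw [maskSet_imgMask hv, h1]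

theorem dodec_trans_mem {i : ℕ} (hi : i < 240) : validElt 5 24 (dodecTrans.getD i idElt) = true ∧
    permOf (dodecTrans.getD i idElt) ∈ stabIn [E8Cent.oMask, pMaskP] := by
  have hm : dodecTrans.getD i idElt ∈ dodecTrans := by
    rw [List.getD_eq_getElem _ _ (dodec_trans_ok.2.2.symm ▸ hi)]
    exact List.getElem_mem _
  have := List.all_eq_true.1 dodec_trans_ok.1 _ hm
  simp only [inStabB, List.all_cons, List.all_nil, Bool.and_eq_true, Nat.beq_eq, Bool.and_true] at this
  obtain ⟨hv, ha, ⟨-, h1⟩, -, h2⟩ := this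
  refine ⟨hv, permOf_mem_M24 hv ha, fun o ho => ?_⟩
  simp only [List.mem_cons, List.not_mem_nil, or_false] at ho
  rw [maskSet_imgMask hv]
  rcases ho with rfl | rfl
  · rw [h1]
  · rw [h2]

theorem stab_complete {σ : Equiv.Perm GolayPt} (h : σ ∈ stabIn [pMaskP, E8Cent.oMask, uMask]) :
    ∃ e ∈ stabList, permOf e = σ := by
  let K := stabIn [pMaskP, E8Cent.oMask, uMask]
  let F : Fin 28 × Fin 240 × K → stOct (maskSet E8Cent.oMask) := fun p =>
    ⟨permOf (pairTrans.getD p.1 idElt) * permOf (dodecTrans.getD p.2.1 idElt) * p.2.2, mem_stOct.2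
      ⟨mul_mem (mul_mem (pair_trans_mem p.1.2).2.1 (dodec_trans_mem p.2.1.2).2.1) p.2.2.2.1, by
        rw [mul_smul, mul_smul, p.2.2.2.2 _ (by simp), (dodec_trans_mem p.2.1.2).2.2 _ (by simp),
          (pair_trans_mem p.1.2).2.2 _ (by simp)]⟩⟩
  have hF : Function.Injective F := by
    rintro ⟨i, j, s⟩ ⟨i', j', t⟩ e
    have e' : permOf (pairTrans.getD i idElt) * permOf (dodecTrans.getD j idElt) * (s : Equiv.Perm GolayPt) =
        permOf (pairTrans.getD i' idElt) * permOf (dodecTrans.getD j' idElt) * t := congrArg Subtype.val e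
    have h1 : maskSet (imgMask (pairTrans.getD i idElt) pMaskP) =
        maskSet (imgMask (pairTrans.getD i' idElt) pMaskP) := by
      have := congrArg (fun g : Equiv.Perm GolayPt => g • maskSet pMaskP) e'
      simp only [mul_smul] at this
      rw [s.2.2 _ (by simp), t.2.2 _ (by simp), (dodec_trans_mem j.2).2.2 _ (by simp),
        (dodec_trans_mem j'.2).2.2 _ (by simp)] at this
      rwa [maskSet_imgMask (pair_trans_mem i.2).1, maskSet_imgMask (pair_trans_mem i'.2).1] at this
    obtain rfl : i = i' := Fin.ext (incr_inj pair_trans_ok.2.1 i i' (by omega) (by omega)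
      (maskSet_inj (mkMask_lt _ _) (mkMask_lt _ _) h1))
    rw [mul_assoc, mul_assoc, mul_right_inj] at e'
    have h2 : maskSet (imgMask (dodecTrans.getD j idElt) uMask) =
        maskSet (imgMask (dodecTrans.getD j' idElt) uMask) := by
      have := congrArg (fun g : Equiv.Perm GolayPt => g • maskSet uMask) e'
      simp only [mul_smul] at this
      rw [s.2.2 _ (by simp), t.2.2 _ (by simp)] at this
      rwa [maskSet_imgMask (dodec_trans_mem j.2).1, maskSet_imgMask (dodec_trans_mem j'.2).1] at this
    obtain rfl : j = j' := Fin.ext (incr_inj dodec_trans_ok.2.1 j j' (by omega) (by omega)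
      (maskSet_inj (mkMask_lt _ _) (mkMask_lt _ _) h2))
    rw [mul_right_inj] at e'
    obtain rfl : s = t := Subtype.ext e'
    rfl
  have hcard : Nat.card K ≤ 48 := by
    have := Nat.card_le_card_of_injective F hF
    rw [Nat.card_prod, Nat.card_prod, Nat.card_eq_fintype_card (α := Fin 28), Fintype.card_fin,
      Nat.card_eq_fintype_card (α := Fin 240), Fintype.card_fin, card_stOct E8Cent.oSet_mem] at this
    omega
  let L : Fin 48 → K := fun i => ⟨_, (stab_mem i.2).2.2⟩
  have hL : Function.Injective L := by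
    intro i j e
    have e' : permOf (stabList.getD i idElt) = permOf (stabList.getD j idElt) := congrArg Subtype.val e
    refine Fin.ext (incr_inj stab_ok.2.1 i j (by omega) (by omega) (pack_congr 24 fun k hk => ?_))
    have := congrArg (fun g : Equiv.Perm GolayPt => idx (g (pt ⟨k, hk⟩))) e'
    simpa only [idx_permOf (stab_mem i.2).2.1, idx_permOf (stab_mem j.2).2.1, idx_pt] using this
  obtain ⟨i, hi⟩ := (hL.bijective_of_nat_card_le (by simpa using hcard)).2 ⟨σ, h⟩
  exact ⟨_, (stab_mem i.2).1, congrArg Subtype.val hi⟩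

/-- **The candidates are complete.** -/
theorem cand_complete {x : ↥Spor.Co2} (h2 : x * x = 1) (h1 : x ≠ 1) (ht : x * E8Cent.t2 = E8Cent.t2 * x)
    (hu : x * moEl (dMo uMask) = moEl (dMo uMask) * x) (htr : tr (x * E8Cent.t2) = -64) :
    ∃ c ∈ candList, x = moEl c := by
  obtain ⟨a, hxa⟩ := mono_of_comm hu
  obtain ⟨hP, -⟩ := mono_facts (show mono a • Spor.leechU = Spor.leechU by rw [← hxa]; exact incl2_fix x)
  set σ := (a.1 : Equiv.Perm GolayPt) with hσ
  have hc1 : ∀ m, okD m = true → x * moEl (dMo m) = moEl (dMo m) * x →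
      σ • maskSet m = maskSet m ∨ σ • maskSet m = (maskSet m)ᶜ := by
    intro m hm hcm
    refine Co1Endgame.fix_or_compl (okM_parts (dMo_ok hm)).1 ?_
    have := congrArg toCo1 hcm
    rw [map_mul, map_mul, toCo1_moEl (dMo_ok hm)] at this
    rwa [← hxa]
  have hnone : (none : GolayPt) ∈ pairSet := Finset.mem_insert_self _ _
  have hbit : ∀ m, okD m = true → x * moEl (dMo m) = moEl (dMo m) * x → σ • maskSet m = maskSet m := fun m hm => by
    intro hcm
    exact (hc1 m hm hcm).resolve_right fun r => by
      have hn : (none : GolayPt) ∉ maskSet m := by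
        simp only [okD, Bool.and_eq_true, Bool.not_eq_true'] at hm
        rw [mem_maskSet, show idx (none : GolayPt) = 23 from rfl, hm.2]
        exact Bool.false_ne_true
      have hq : σ⁻¹ • (none : GolayPt) ∈ pairSet := by
        rw [Finset.inv_smul_mem_iff, hP]; exact hnone
      have hq' : σ⁻¹ • (none : GolayPt) ∈ maskSet m := by
        rw [Finset.inv_smul_mem_iff, r, Finset.mem_compl]; exact hn
      simp only [okD, Bool.and_eq_true, Bool.not_eq_true'] at hm
      rw [Co2Graph.pairSet, Finset.mem_insert, Finset.mem_singleton] at hq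
      rcases hq with e | e <;> rw [e, mem_maskSet] at hq'
      · rw [show idx (none : GolayPt) = 23 from rfl, hm.2] at hq'
        exact absurd hq' (by decide)
      · rw [show idx (some 0 : GolayPt) = 0 by decide, hm.1.2] at hq'
        exact absurd hq' (by decide)
  have hT : σ • maskSet tMask = maskSet tMask := by
    refine hbit _ tMask_ok ?_
    rwa [← t2_moEl]
  have hU := hbit _ basic_ok.2.1 hu
  have hO : σ • maskSet E8Cent.oMask = maskSet E8Cent.oMask := by
    have e : maskSet E8Cent.oMask = (maskSet tMask)ᶜ := by decide +kernel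
    rw [e]
    ext p
    rw [← Finset.inv_smul_mem_iff, Finset.mem_compl, Finset.mem_compl, Finset.inv_smul_mem_iff, hT]
  obtain ⟨e, he, hp⟩ := stab_complete (σ := σ) ⟨a.1.2, fun o ho => by
    simp only [List.mem_cons, List.not_mem_nil, or_false] at ho
    rcases ho with rfl | rfl | rfl
    · rw [← pairSet_eq, hP]
    · exact hO
    · exact hU⟩
  have hs := List.all_eq_true.1 stab_ok.1 _ he
  simp only [Bool.and_eq_true] at hs
  obtain ⟨hv, hst⟩ := hs
  simp only [inStabB, Bool.and_eq_true] at hst
  have hb : pairB e = true := by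
    have hpe : permOf e • pairSet = pairSet := hp ▸ hP
    have key : ∀ p ∈ pairSet, idx (permOf e p) = 0 ∨ idx (permOf e p) = 23 := fun p hp' => by
      have : permOf e • p ∈ pairSet := hpe ▸ Finset.smul_mem_smul_finset hp'
      rw [Co2Graph.pairSet, Finset.mem_insert, Finset.mem_singleton] at this
      rcases this with r | r <;> rw [Equiv.Perm.smul_def] at r <;> rw [r]
      · exact Or.inr rfl
      · exact Or.inl (by decide)
    have k0 := key (some 0) (by decide)
    have k23 := key none hnone
    have hne : idx (permOf e (some 0)) ≠ idx (permOf e none) := fun r =>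
      absurd ((permOf e).injective (idx_injective r)) (by simp)
    rw [idx_permOf hv, idx_permOf hv, show idx (some 0 : GolayPt) = 0 by decide,
      show idx (none : GolayPt) = 23 from rfl] at hne
    rw [idx_permOf hv, show idx (some 0 : GolayPt) = 0 by decide] at k0
    rw [idx_permOf hv, show idx (none : GolayPt) = 23 from rfl] at k23
    simp only [pairB, Bool.and_eq_true, Bool.or_eq_true, Nat.beq_eq]
    omega
  obtain ⟨m, hm, hok, rfl⟩ := exists_code hxa hv hst.1 hp hb
  have hsq : Co1Endgame.SqOne (Co1Endgame.moEl (m, e)) := by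
    rw [Co1Endgame.moEl_eq (okM_parts hok).1, ← incl2_moEl hok]
    exact Co1Endgame.sqOne_mk (by rw [← map_mul, h2, map_one])
  have hs := Co1Endgame.sqB_of (okM_parts hok).1 hsq
  rw [Co1Endgame.sqB, Bool.and_eq_true] at hs
  have htn : trN (m, e) (dMo tMask) = 16 := trN_eq hok (dMo_ok tMask_ok) (by rw [← t2_moEl, htr]; norm_num)
  have hpk := List.all_eq_true.1 perms_ok e he
  rw [permChk, Co1Endgame.forceElt, Co1Endgame.force_eq, Co1Endgame.force_eq, Co1Endgame.force_eq,
    Co1Endgame.force_eq, Co1Endgame.withImgs_eq] at hpk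
  rw [show allBelow (fun k => Nat.beq (get 5 e.1 (get 5 e.1 k)) k) 24 = true from hs.1, Bool.not_true,
    Bool.false_or] at hpk
  have hf := Co1Endgame.spanAll_spec _ e halfBasis 0 0 hpk m hm
  have h0 : m.testBit 0 = false := (okM_parts hok).2.1
  have hinv : Nat.beq (m ^^^ imgMask e m) 0 = true := hs.2
  have hq : Nat.beq (24 + popCount (Co1Endgame.fixMask e idElt) 24 -
      2 * popCount ((m ^^^ imgMask e tMask) &&& Co1Endgame.fixMask e idElt) 24) 16 = true := by
    rw [trN, Co1Endgame.force_eq] at htn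
    rw [Nat.beq_eq]
    exact htn
  simp only [Nat.zero_xor, h0, hinv, hq, Bool.not_true, Bool.false_or, Bool.or_eq_true, Bool.and_eq_true,
    Nat.beq_eq, inCand, List.any_eq_true] at hf
  rcases hf with ⟨⟨rfl, e1⟩, e2⟩ | ⟨c, hc, ⟨hc1', hc2⟩, hc3⟩
  · exfalso
    refine h1 ?_
    rw [show e = idElt from Prod.ext e1 e2]
    exact moEl_one
  · exact ⟨c, hc, congrArg moEl (Prod.ext hc1'.symm (Prod.ext hc2.symm hc3.symm))⟩

end Cfsg.Agent.Co2Close
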