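import Cfsg.Agent.Lib.Co2Recog.Close.ClassesDefs

/-! Kernel checks for the classes of involutions. -/

set_option autoImplicit false
set_option maxRecDepth 100000
set_option Elab.async false

namespace Cfsg.Agent.Co2Close

open Cfsg Cfsg.Agent.Golay Cfsg.Agent.PermCert
open Cfsg.Agent.Co2Recog.Layers (axOK)
open Cfsg.Agent.Co2Graph (sigMat)

theorem inv_ok0 : invRange 0 = true ∧ invRange 32 = true := by decide +kernel

end Cfsg.Agent.Co2Close
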