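import Cfsg.Agent.Lib.Co2Recog.Close.ClassesDefs

/-! Kernel checks for the classes of involutions. -/

set_option autoImplicit false
set_option maxRecDepth 100000
set_option Elab.async false

namespace Cfsg.Agent.Co2Close

open Cfsg Cfsg.Agent.Golay Cfsg.Agent.PermCert
open Cfsg.Agent.Co2Recog.Layers (axOK)
open Cfsg.Agent.Co2Graph (sigMat)

theorem c0_ok : (codeList.all fun c => c.testBit 0 || c.testBit 23 ||
    Nat.beq (c0List.getD (c0Pos c) 16777216) c) = true ∧
    (c0List.all fun c => inCode c && !c.testBit 0 && !c.testBit 23) = true := by decide +kernel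

theorem sigA_ok : axOK sigMat sigA = true := by decide +kernel

end Cfsg.Agent.Co2Close
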