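import Cfsg.Agent.Lib.Co2Recog.Close.ClassesDefs

/-! Kernel checks for the classes of involutions. -/

set_option autoImplicit false
set_option maxRecDepth 100000
set_option Elab.async false

namespace Cfsg.Agent.Co2Close

open Cfsg Cfsg.Agent.Golay Cfsg.Agent.PermCert
open Cfsg.Agent.Co2Recog.Layers (axOK)
open Cfsg.Agent.Co2Graph (sigMat)

theorem msk_ok : mskOK msk8 330 = true ∧ mskOK msk12 616 = true ∧ mskOK msk16 77 = true := by decide +kernel

theorem msk_len : msk8.length = 6 ∧ msk12.length = 10 ∧ msk16.length = 2 := by decide +kernel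

theorem msk_cover : mskCover = true := by decide +kernel

end Cfsg.Agent.Co2Close
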