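import Cfsg.Agent.Lib.Co2Recog.Close.Sylow
import Cfsg.Agent.Lib.Co2Recog.Close.ClassesChecks0
import Cfsg.Agent.Lib.Co2Recog.Close.ClassesChecks1
import Cfsg.Agent.Lib.Co2Recog.Close.ClassesChecks2
import Cfsg.Agent.Lib.Co2Recog.Close.ClassesChecks3
import Cfsg.Agent.Lib.Co2Recog.Close.ClassesChecks4
import Cfsg.Agent.Lib.Co2Recog.Close.ClassesChecks5
import Cfsg.Agent.Lib.Co2Recog.Close.ClassesChecks6
import Cfsg.Agent.Lib.Co2Recog.Close.ClassesChecks7
import Cfsg.Agent.Lib.Co2Recog.Model.Edge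
import Cfsg.Agent.Lib.Co1Recog.Endgame.Model

/-!
**The classes of involutions**: every involution of the second Conway group is conjugate to a sign change, and its
class is read off the trace.
-/

set_option autoImplicit false
set_option maxRecDepth 20000
set_option linter.style.haveILetI false

noncomputable section

namespace Cfsg.Agent.Co2Close

open Cfsg Cfsg.Agent.Golay Cfsg.Agent.Leech Cfsg.Agent.PermCert Cfsg.Agent.SporPerm Cfsg.Agent.LeechMod
open Cfsg.Agent.Golay.OctadSpace (moved moved_mem)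
open Cfsg.Agent.LeechOrbit (dec)
open Cfsg.Agent.Co1Out (el)
open Cfsg.Agent.Co1Recog (toVec_dec)
open Cfsg.Agent.Co1Endgame (trA trA_comm trA_mono)
open Cfsg.Agent.Co2Recog.Layers (incl2 N2 liftU incl2_lift axOK_spec)
open Cfsg.Agent.Co2Recog.Edge (negCode elem_mono mono_diag)
open Cfsg.Agent.Co2Recog.Side (A2 incl2_injective)
open scoped Pointwise
open Cfsg.Agent.Co2Graph (pairVal finite_Co2 sigma2 sigMat wordEl stepEl stepsC_spec permsOK sigOK zeroFree mnOK mn mn_fix mn_eq perm_valid permAt)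

theorem pack5_congr {f g : ℕ → ℕ} : ∀ {n : ℕ}, (∀ i < n, f i = g i) → pack 5 f n = pack 5 g n
  | 0, _ => rfl
  | n + 1, h => by rw [pack_succ, pack_succ, pack5_congr fun i hi => h i (by omega), h n (by omega)]

attribute [local irreducible] pAt pTab c0List codeList imAt wtAt invIdx crAt crW sigA msk8 msk12 msk16

/-! ### The masks -/

theorem c0_mem {c : ↥pairVal.ker} : ∃ m ∈ c0List, ofMask m = ((c : golayCode) : GolayPt → ZMod 2) := by
  obtain ⟨m, hm, e⟩ := mem_golayCode.1 ((c : golayCode)).2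
  have h := List.all_eq_true.1 c0_ok.1 m hm
  have hp : ∀ p : GolayPt, idx p = 0 ∨ idx p = 23 → p ∈ Co2Graph.pairSet := by decide +kernel
  have h0 : ∀ i, i = 0 ∨ i = 23 → m.testBit i = false := by
    intro i hi
    have hlt : i < 24 := by omega
    have := Co2Graph.mem_pairVal (c := c) (hp (pt ⟨i, hlt⟩) (by rwa [idx_pt]))
    rw [← e] at this
    simp only [ofMask, idx_pt] at this
    by_contra hne
    rw [Bool.not_eq_false] at hne
    simp [hne] at this
  simp only [h0 0 (Or.inl rfl), h0 23 (Or.inr rfl), Bool.false_or, Nat.beq_eq] at h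
  refine ⟨m, ?_, e⟩
  have hlt : c0Pos m < c0List.length := by
    by_contra hge
    rw [List.getD_eq_default _ _ (by omega)] at h
    exact absurd (lt_of_mem_codeList hm) (by omega)
  rw [← h, List.getD_eq_getElem _ _ hlt]
  exact List.getElem_mem _

theorem c0_code {m : ℕ} (hm : m ∈ c0List) : ofMask m ∈ golayCode := by
  have h := List.all_eq_true.1 c0_ok.2 m hm
  simp only [Bool.and_eq_true] at h
  exact ofMask_mem_golayCode h.1.1

/-! ### The crosses -/

/-- The element of a word. -/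
def crEl (j : ℕ) : Co0 := wordEl ((crW.getD j []).map some) * el sigMat

theorem cr_ok {j : ℕ} (hj : j < 71) : crOK j = true := by
  rcases Nat.lt_or_ge j 36 with h | h
  · exact allBelow_spec _ _ cross_ok j h
  · have := allBelow_spec _ _ cross_ok' (j - 36) (by omega)
    rwa [Nat.add_sub_cancel' h] at this

theorem crAt_spec {j : ℕ} (hj : j < 71) {i : ℕ} (hi : i < 24) :
    (∀ n, some n ∈ (crW.getD j []).map some → mnOK n = true) ∧
    toVec (dec 24 ((crAt j).getD i 0)) = ((crEl j • axis (pt ⟨i, hi⟩) : leechLattice) : GolayPt → ℤ) ∧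
      zeroFree ((crAt j).getD i 0) = true := by
  have h := allBelow_spec _ _ (cr_ok hj) i hi
  obtain ⟨hw, q, hq, hk⟩ := stepsC_spec permsOK sigOK h (axOK_spec sigOK.1 sigA_ok hi)
  simp only [Bool.and_eq_true, Nat.beq_eq] at hk
  obtain ⟨rfl, hz⟩ := hk
  exact ⟨hw, by rw [hq, crEl, mul_smul], hz⟩

theorem wordEl_fix : ∀ {w : List (ℕ × ℕ)}, (∀ n ∈ w, mnOK n = true) →
    wordEl (w.map some) • Spor.leechU = Spor.leechU
  | [], _ => by simp [wordEl]
  | n :: w, h => by
    rw [wordEl, List.map_cons, List.map_cons, List.prod_cons, mul_smul]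
    show mn n • wordEl (w.map some) • Spor.leechU = Spor.leechU
    rw [wordEl_fix fun m hm => h m (List.mem_cons_of_mem _ hm), mn_fix permsOK (h n List.mem_cons_self)]

theorem crEl_fix {j : ℕ} (hj : j < 71) : crEl j • Spor.leechU = Spor.leechU := by
  rw [crEl, mul_smul, show el sigMat • Spor.leechU = Spor.leechU from Co2Graph.sig_fixU]
  exact wordEl_fix fun n hn => (crAt_spec hj (show 0 < 24 by norm_num)).1 n (List.mem_map_of_mem hn)

/-- An element fixing every line of the standard cross is a sign change. -/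
theorem diag_of_lines {g : Co0} (h : ∀ i, ∃ s : ℤ, (s = 1 ∨ s = -1) ∧ g • axis i = s • axis i) :
    ∃ c : golayCode, g = Leech.diag c := by
  have hstd : FixesStd g := by
    intro v hv
    obtain ⟨i, r, hr, rfl⟩ := mem_stdCross_iff.1 hv
    obtain ⟨s, hs, e⟩ := h i
    rw [mem_stdCross_iff]
    refine ⟨i, r * s, ?_, ?_⟩
    · rcases hr with rfl | rfl <;> rcases hs with rfl | rfl <;> norm_num
    · rw [← hom0_apply g (_ • _), map_zsmul, hom0_apply, e, smul_smul]
  obtain ⟨a, rfl⟩ := fixesStd_iff.1 hstd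
  refine ⟨a.2, congrArg mono (Prod.ext (Subtype.ext (Equiv.ext fun i => ?_)) rfl)⟩
  obtain ⟨s, hs, e⟩ := h i
  rw [mono_axis] at e
  have e' := congrFun (congrArg (fun v : leechLattice => (v : GolayPt → ℤ)) e) ((a.1 : Equiv.Perm GolayPt) i)
  simp only [AddSubgroup.coe_zsmul, Pi.smul_apply, coe_axis, Pi.single_apply, smul_eq_mul, if_true] at e'
  by_contra hne
  rw [if_neg (show ¬ ((a.1 : Equiv.Perm GolayPt) i = i) from hne), mul_zero] at e'
  unfold sgn at e'
  split at e' <;> norm_num at e'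

theorem toVec_neg {c : ℕ} (hz : zeroFree c = true) {v : leechLattice} (hv : toVec (dec 24 c) = (v : GolayPt → ℤ)) :
    toVec (dec 24 (negCode c)) = (((-1 : ℤ) • v : leechLattice) : GolayPt → ℤ) := funext fun p => by
  have e := congrFun hv p
  rw [toVec_dec] at e
  rw [toVec_dec, negCode, get_pack _ _ _ _ (idx_lt p)]
  have h16 : PermCert.get 4 c (idx p) < 16 := by
    unfold PermCert.get; exact Nat.mod_lt _ (by norm_num)
  have h0 := allBelow_spec _ _ hz (idx p) (idx_lt p)
  rw [Bool.not_eq_true', ← Bool.not_eq_true, Nat.beq_eq] at h0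
  rw [show (16 - PermCert.get 4 c (idx p)) % 2 ^ 4 = 16 - PermCert.get 4 c (idx p) from Nat.mod_eq_of_lt (by omega)]
  simp only [AddSubgroup.coe_zsmul, Pi.smul_apply, smul_eq_mul]
  rw [← e]
  omega

/-- A witness conjugates its element to a sign change. -/
theorem wit_spec {k c j : ℕ} (hk : k < 256) (hj : j < 71) (h : witOK (pAt k) c j = true) :
    ∃ hc : ofMask c ∈ golayCode, ∀ x : ↥Spor.Co2,
      incl2 x = mono (⟨pPerm k, pPerm_M24 hk⟩, ⟨ofMask c, hc⟩) → ∃ d ∈ A2, IsConj x d := by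
  simp only [witOK, Bool.and_eq_true] at h
  obtain ⟨he, hl⟩ := h
  obtain ⟨hv, hM, hc, -, hmove⟩ := elem_mono he
  refine ⟨hc, fun x hx => ?_⟩
  let g : ↥Spor.Co2 := liftU (crEl j) (crEl_fix hj)
  have hgx : ∀ i, ∃ s : ℤ, (s = 1 ∨ s = -1) ∧ incl2 x • crEl j • axis i = s • (crEl j • axis i) := by
    intro i
    have hi := idx_lt i
    have hp : pt ⟨idx i, hi⟩ = i := idx_injective (by rw [idx_pt])
    obtain ⟨-, hcol, hz⟩ := crAt_spec hj hi
    rw [hp] at hcol
    rw [hx]
    rcases Bool.or_eq_true_iff.1 (allBelow_spec _ _ hl (idx i) hi) with h | h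
    · exact ⟨1, Or.inl rfl, (hmove _ _ _ _ hcol hcol h).trans (one_smul _ _).symm⟩
    · exact ⟨-1, Or.inr rfl, hmove _ _ _ _ hcol (toVec_neg hz hcol) h⟩
  have hlines : ∀ i, ∃ s : ℤ, (s = 1 ∨ s = -1) ∧ incl2 (g⁻¹ * x * g) • axis i = s • axis i := by
    intro i
    obtain ⟨s, hs, e⟩ := hgx i
    refine ⟨s, hs, ?_⟩
    rw [map_mul, map_mul, map_inv, incl2_lift, mul_smul, mul_smul, e, ← hom0_apply _ (_ • _), map_zsmul,
      hom0_apply, inv_smul_smul]
  obtain ⟨d, hd⟩ := diag_of_lines hlines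
  exact ⟨g⁻¹ * x * g, ⟨d, hd⟩, isConj_iff.2 ⟨g⁻¹, by rw [inv_inv]⟩⟩

theorem inv_all {k : ℕ} (hk : k < 256) : invOK k = true := by
  have key : ∀ a, invRange a = true → a ≤ k → k < a + 32 → invOK k = true := fun a h h1 h2 => by
    have := allBelow_spec _ _ h (k - a) (by omega)
    rwa [Nat.add_sub_cancel' h1] at this
  rcases (show k < 32 ∨ (32 ≤ k ∧ k < 64) ∨ (64 ≤ k ∧ k < 96) ∨ (96 ≤ k ∧ k < 128) ∨ (128 ≤ k ∧ k < 160) ∨
      (160 ≤ k ∧ k < 192) ∨ (192 ≤ k ∧ k < 224) ∨ 224 ≤ k by omega) with h | h | h | h | h | h | h | h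
  · exact key 0 inv_ok0.1 (by omega) (by omega)
  · exact key 32 inv_ok0.2 (by omega) (by omega)
  · exact key 64 inv_ok1.1 (by omega) (by omega)
  · exact key 96 inv_ok1.2 (by omega) (by omega)
  · exact key 128 inv_ok2.1 (by omega) (by omega)
  · exact key 160 inv_ok2.2 (by omega) (by omega)
  · exact key 192 inv_ok3.1 (by omega) (by omega)
  · exact key 224 inv_ok3.2 (by omega) (by omega)

theorem exists_diag2 {d : ℕ} (h : inCode d = true) (h0 : d.testBit 0 = false) (h23 : d.testBit 23 = false) :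
    ∃ a ∈ A2, incl2 a = Leech.diag ⟨ofMask d, ofMask_mem_golayCode h⟩ := by
  have hp : ∀ p ∈ Co2Graph.pairSet, idx p = 0 ∨ idx p = 23 := by decide +kernel
  refine ⟨liftU (Leech.diag ⟨ofMask d, ofMask_mem_golayCode h⟩)
    (Co2Graph.mono_fixU (show (1 : Equiv.Perm GolayPt) • Co2Graph.pairSet = Co2Graph.pairSet from one_smul _ _)
      fun p hq => ?_), ⟨_, incl2_lift _ _⟩, incl2_lift _ _⟩
  show ofMask d p = 0
  rcases hp p hq with e | e <;> simp [ofMask, e, h0, h23]

/-- An involution of the Sylow subgroup is conjugate to a sign change. -/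
theorem conj_A2_S0 {x : ↥Spor.Co2} (hx : x ∈ S0) (h2 : x * x = 1) : ∃ d ∈ A2, IsConj x d := by
  obtain ⟨k, hk, c, hc⟩ := hx
  have h := inv_all hk
  simp only [invOK, Bool.or_eq_true, Bool.not_eq_true', Nat.beq_eq] at h
  rcases Nat.eq_zero_or_pos k with rfl | hk0
  · exact ⟨x, ⟨c, hc.trans (congrArg mono (Prod.ext (Subtype.ext pPerm_zero) rfl))⟩, IsConj.refl x⟩
  have hvk := (pAt_parts hk).1
  have hsq : mono (pairMul (⟨pPerm k, pPerm_M24 hk⟩, c) (⟨pPerm k, pPerm_M24 hk⟩, c)) =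
      mono (⟨pPerm 0, pPerm_M24 (by norm_num)⟩, (0 : golayCode)) := by
    rw [← mono_mul, ← hc, ← map_mul, h2, map_one, one_code]
  have hpair := mono_injective hsq
  have hσ : pPerm k * pPerm k = 1 := by
    have := congrArg (fun a : M24 × golayCode => (a.1 : Equiv.Perm GolayPt)) hpair
    simpa [pairMul, pPerm_zero] using this
  have hcσ : moved (pPerm k) (c : GolayPt → ZMod 2) = c := by
    funext p
    have e := congrArg (fun a : M24 × golayCode => (a.2 : GolayPt → ZMod 2) p) hpair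
    simp only [pairMul, Pi.add_apply] at e
    show (c : GolayPt → ZMod 2) ((pPerm k).symm p) = _
    exact (CharTwo.add_eq_zero.1 e).symm
  obtain ⟨m, hm, hmc⟩ := c0_mem (c := ⟨c, code_pair hk hc⟩)
  have hmlt : m < 2 ^ 24 := by
    have h := List.all_eq_true.1 c0_ok.2 m hm
    simp only [Bool.and_eq_true] at h
    exact lt_of_mem_codeList (inCode_iff.1 h.1.1)
  have hne : (Nat.beq (PermCert.mul 5 24 (pAt k) (pAt k)).1 (idCode 5 24)) = true := by
    rw [Nat.beq_eq]
    have e : pack 5 (fun i => PermCert.get 5 (pAt k).1 (PermCert.get 5 (pAt k).1 i)) 24 = idCode 5 24 := by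
      rw [idCode]
      refine pack5_congr fun i hi => ?_
      have := congrArg (fun σ : Equiv.Perm GolayPt => idx (σ (pt ⟨i, hi⟩))) hσ
      simpa [Equiv.Perm.mul_apply, pPerm, idx_permOf hvk, idx_pt] using this
    rw [← e]
    rfl
  rcases h with (h | h) | h
  · omega
  · rw [hne] at h; exact absurd h (by decide)
  simp only [Bool.and_eq_true] at h
  obtain ⟨⟨him, hwt⟩, hall⟩ := h
  have himg : imgMask (pAt k) m = m := by
    refine ofMask_inj (mkMask_lt _ _) hmlt ?_
    rw [← Co1Endgame.ofMask_img hvk, hmc]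
    exact hcσ
  have := List.all_eq_true.1 hall m hm
  simp only [himg, Bool.or_eq_true, Bool.not_eq_true', List.any_eq_true, Nat.beq_eq] at this
  obtain ⟨w, hw, z, hz, e⟩ := this.resolve_left (by simp)
  have hw' := List.all_eq_true.1 hwt w hw
  rw [Bool.and_eq_true, Nat.blt_eq] at hw'
  have hz' := List.all_eq_true.1 him z hz
  simp only [Bool.and_eq_true, Bool.not_eq_true', Nat.beq_eq] at hz'
  obtain ⟨⟨⟨hd, hd0⟩, hd23⟩, hze⟩ := hz'
  obtain ⟨hwc, hspec⟩ := wit_spec hk hw'.1 hw'.2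
  obtain ⟨a, ha, hai⟩ := exists_diag2 hd hd0 hd23
  have hcode : (ofMask z.2 + ((c : GolayPt → ZMod 2) + moved (pPerm k) (ofMask z.2))) = ofMask w.1 := by
    rw [← hmc, pPerm, show moved (permOf (pAt k)) (ofMask z.2) = ofMask (imgMask (pAt k) z.2) from
      Co1Endgame.ofMask_img hvk _, ← ofMask_xor, ← ofMask_xor]
    refine congrArg ofMask ?_
    have e2 : z.2 ^^^ imgMask (pAt k) z.2 = m ^^^ w.1 := hze.symm.trans e
    calc z.2 ^^^ (m ^^^ imgMask (pAt k) z.2) = m ^^^ (z.2 ^^^ imgMask (pAt k) z.2) := by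
          rw [← Nat.xor_assoc, Nat.xor_comm z.2 m, Nat.xor_assoc]
      _ = w.1 := by rw [e2, ← Nat.xor_assoc, Nat.xor_self, Nat.zero_xor]
  have hy : incl2 (a * x * a⁻¹) = mono (⟨pPerm k, pPerm_M24 hk⟩, ⟨ofMask w.1, hwc⟩) := by
    rw [map_mul, map_mul, map_inv, hc, hai, mul_inv_eq_iff_eq_mul, Leech.diag, mono_mul, mono_mul]
    refine congrArg mono (Prod.ext (by simp [pairMul]) (Subtype.ext (funext fun p => ?_)))
    have e := congrFun hcode p
    simp only [Pi.add_apply, moved] at e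
    simp only [pairMul, Pi.add_apply, OneMemClass.coe_one, Equiv.Perm.one_def, Equiv.refl_symm, Equiv.refl_apply]
    rw [← e]
    have := CharTwo.add_self_eq_zero (ofMask z.2 ((pPerm k).symm p))
    linear_combination -this
  obtain ⟨d, hd', hconj⟩ := hspec _ hy
  exact ⟨d, hd', (isConj_iff.2 ⟨a, rfl⟩).trans hconj⟩

/-- **Every involution is conjugate to a sign change.** -/
theorem conj_A2 {a : ↥Spor.Co2} (h2 : a * a = 1) : ∃ d ∈ Co2Recog.Side.A2, IsConj a d := by
  haveI := finite_Co2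
  haveI : Fact (Nat.Prime 2) := ⟨Nat.prime_two⟩
  have hP : IsPGroup 2 ↥(Subgroup.zpowers a) := by
    by_cases h : a = 1
    · refine IsPGroup.of_card (n := 0) ?_
      rw [Nat.card_zpowers, h, orderOf_one, pow_zero]
    · refine IsPGroup.of_card (n := 1) ?_
      rw [Nat.card_zpowers, pow_one]
      exact orderOf_eq_prime (by rw [pow_two]; exact h2) h
  obtain ⟨P, hP'⟩ := hP.exists_le_sylow
  obtain ⟨g, hg⟩ := MulAction.exists_smul_eq ↥Spor.Co2 P sylow0
  have hmem : g * a * g⁻¹ ∈ S0 := by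
    rw [← coe_sylow0, ← hg, Sylow.coe_subgroup_smul]
    exact ⟨a, hP' (Subgroup.mem_zpowers a), rfl⟩
  obtain ⟨d, hd, hc⟩ := conj_A2_S0 hmem (by
    calc g * a * g⁻¹ * (g * a * g⁻¹) = g * (a * a) * g⁻¹ := by group
      _ = 1 := by rw [h2]; group)
  exact ⟨d, hd, (isConj_iff.2 ⟨g, rfl⟩).trans hc⟩

/-! ### The trace -/

theorem trA_conj {a b : ↥Spor.Co2} (h : IsConj a b) : trA (incl2 a) = trA (incl2 b) := by
  obtain ⟨g, rfl⟩ := isConj_iff.1 h
  rw [map_mul, map_mul, trA_comm, ← mul_assoc, ← map_mul incl2 g⁻¹ g, inv_mul_cancel, map_one, one_mul]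

theorem trA_diag {m : ℕ} (hm : ofMask m ∈ golayCode) :
    trA (Leech.diag ⟨ofMask m, hm⟩) = 8 * (24 - 2 * (popCount m 24 : ℤ)) := by
  rw [Leech.diag, trA_mono, ← card_maskSet]
  have hs : ∀ p, sgn (ofMask m) p = 1 - 2 * (if p ∈ maskSet m then (1 : ℤ) else 0) := fun p => by
    simp only [sgn, ofMask, mem_maskSet]
    rcases Bool.eq_false_or_eq_true (m.testBit (idx p)) with r | r <;> simp [r]
  simp only [OneMemClass.coe_one, Equiv.Perm.one_apply, if_true, hs, ← Finset.mul_sum, Finset.sum_sub_distrib,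
    Finset.sum_const, nsmul_eq_mul, mul_one, Finset.sum_ite_mem, Finset.univ_inter]
  norm_num [GolayPt]

theorem mask_of_A2 {a : ↥Spor.Co2} (ha : a ∈ A2) :
    ∃ m ∈ c0List, ∃ h : ofMask m ∈ golayCode, incl2 a = Leech.diag ⟨ofMask m, h⟩ := by
  obtain ⟨c, hc⟩ := ha
  have hker : c ∈ pairVal.ker := code_pair (show 0 < 256 by norm_num)
    (hc.trans (congrArg mono (Prod.ext (Subtype.ext pPerm_zero.symm) rfl)))
  obtain ⟨m, hm, e⟩ := c0_mem (c := ⟨c, hker⟩)
  exact ⟨m, hm, c0_code hm, hc.trans (congrArg Leech.diag (Subtype.ext e.symm))⟩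

/-- Entry of an orbit list. -/
def ent (L : List (List (ℕ × ℕ × ℕ))) (i : ℕ) : ℕ × ℕ × ℕ := (L.getD (i / 64) []).getD (i % 64) (0, 0, 0)

theorem msk_conj {L : List (List (ℕ × ℕ × ℕ))} {n : ℕ} (hL : mskOK L n = true) :
    ∀ i < n, ∀ {a b : ↥Spor.Co2} (ha : ofMask (ent L 0).1 ∈ golayCode) (hb : ofMask (ent L i).1 ∈ golayCode),
      incl2 a = Leech.diag ⟨_, ha⟩ → incl2 b = Leech.diag ⟨_, hb⟩ → IsConj a b := by
  intro i
  induction i using Nat.strong_induction_on with
  | _ i ih =>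
    intro hi a b ha hb hea heb
    rcases Nat.eq_zero_or_pos i with rfl | h0
    · rw [incl2_injective (hea.trans heb.symm)]
    have h : Nat.beq i 0 = true ∨ ((Nat.blt (ent L i).2.1 i = true ∧ mnOK ((ent L i).2.2, 0) = true) ∧
        Nat.beq (ent L i).1 (imgMask (permAt (ent L i).2.2) (ent L (ent L i).2.1).1) = true) := by
      have := allBelow_spec _ _ hL i hi
      simp only [Bool.or_eq_true, Bool.and_eq_true] at this
      exact this
    simp only [Nat.beq_eq, Nat.blt_eq] at h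
    obtain ⟨⟨hp, hk⟩, he⟩ := h.resolve_left (by omega)
    let u := Co2Graph.mn2 permsOK hk
    obtain ⟨hσ, hs, eu⟩ := mn_eq permsOK hk
    have hu : incl2 u = mn ((ent L i).2.2, 0) := incl2_lift _ _
    have hv := perm_valid permsOK hk
    have hbA : b ∈ A2 := ⟨_, heb⟩
    have hN : u⁻¹ * b * u ∈ A2 := by
      have := Co2Recog.Side.A2_conj (inv_mem (Co2Graph.mn2_mem permsOK hk)) hbA
      rwa [inv_inv] at this
    obtain ⟨c, hc⟩ := hN
    have hmove : moved (permOf (permAt (ent L i).2.2)) (c : GolayPt → ZMod 2) =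
        moved (permOf (permAt (ent L i).2.2)) (ofMask (ent L (ent L i).2.1).1) := by
      have e : incl2 u * Leech.diag c = Leech.diag ⟨_, hb⟩ * incl2 u := by
        rw [← hc, ← heb, ← map_mul, ← map_mul]
        congr 1
        group
      rw [hu, eu, mono_diag] at e
      refine (congrArg Subtype.val (congrArg Prod.snd (mono_injective (mul_right_cancel e)))).trans ?_
      show ofMask (ent L i).1 = _
      rw [he]
      exact (Co1Endgame.ofMask_img hv _).symm
    have hcm : (c : GolayPt → ZMod 2) = ofMask (ent L (ent L i).2.1).1 := funext fun p => by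
      have := congrFun hmove (permOf (permAt (ent L i).2.2) p)
      simpa [moved] using this
    have hpm : ofMask (ent L (ent L i).2.1).1 ∈ golayCode := hcm ▸ c.2
    have := ih _ hp (hp.trans hi) ha hpm hea (hc.trans (congrArg Leech.diag (Subtype.ext hcm)))
    exact this.trans (isConj_iff.2 ⟨u, by group⟩)

theorem mask_rep {m : ℕ} (hm : m ∈ c0List) (h0 : m ≠ 0) :
    (popCount m 24 = 8 ∨ popCount m 24 = 12 ∨ popCount m 24 = 16) ∧
      ∃ i < mskLen (popCount m 24), (ent (mskOf (popCount m 24)) i).1 = m := by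
  have h := List.all_eq_true.1 msk_cover m hm
  rw [Bool.or_eq_true, Nat.beq_eq, show ∀ n k, mskCover.forceW n k = k n from fun n k => by cases n <;> rfl] at h
  have h' := h.resolve_left h0
  simp only [Bool.and_eq_true, Bool.or_eq_true, Nat.beq_eq, List.any_eq_true] at h'
  obtain ⟨hw, l, hl, y, hy, e⟩ := h'
  refine ⟨by tauto, ?_⟩
  obtain ⟨a, ha, rfl⟩ := List.getElem_of_mem hl
  obtain ⟨b, hb, rfl⟩ := List.getElem_of_mem hy
  have hbound : ∀ w, (w = 8 ∨ w = 12 ∨ w = 16) → ∀ a < (mskOf w).length,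
      ((mskOf w).getD a []).length ≤ 64 ∧ 64 * a + ((mskOf w).getD a []).length ≤ mskLen w := by
    rintro w (rfl | rfl | rfl) <;> decide +kernel
  obtain ⟨h64, hsum⟩ := hbound _ (by tauto) a ha
  rw [List.getD_eq_getElem _ _ ha] at h64 hsum
  refine ⟨64 * a + b, by omega, ?_⟩
  rw [ent, show (64 * a + b) / 64 = a by omega, show (64 * a + b) % 64 = b by omega,
    List.getD_eq_getElem _ _ ha, List.getD_eq_getElem _ _ hb]
  exact e

/-- **The trace determines the class.** -/
theorem conj_of_tr {a b : ↥Spor.Co2} (ha : a * a = 1) (hb : b * b = 1)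
    (h : Co1Endgame.trA (incl2 a) = Co1Endgame.trA (incl2 b)) : IsConj a b := by
  obtain ⟨d, hd, hca⟩ := conj_A2 ha
  obtain ⟨d', hd', hcb⟩ := conj_A2 hb
  rw [trA_conj hca, trA_conj hcb] at h
  refine hca.trans (IsConj.trans ?_ hcb.symm)
  obtain ⟨m, hm, hmc, e⟩ := mask_of_A2 hd
  obtain ⟨m', hm', hmc', e'⟩ := mask_of_A2 hd'
  rw [e, e', trA_diag, trA_diag] at h
  have hw : popCount m 24 = popCount m' 24 := by omega
  have hzero : popCount (0 : ℕ) 24 = 0 := by decide
  rcases eq_or_ne m 0 with rfl | h0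
  · rcases eq_or_ne m' 0 with rfl | h0'
    · rw [incl2_injective (e.trans e'.symm)]
    · obtain ⟨hc, -⟩ := mask_rep hm' h0'; omega
  rcases eq_or_ne m' 0 with rfl | h0'
  · obtain ⟨hc, -⟩ := mask_rep hm h0; omega
  obtain ⟨hc, i, hi, hei⟩ := mask_rep hm h0
  obtain ⟨-, i', hi', hei'⟩ := mask_rep hm' h0'
  rw [← hw] at hi' hei'
  generalize popCount m 24 = w at hc hi hei hi' hei'
  subst hei
  subst hei'
  have hok : mskOK (mskOf w) (mskLen w) = true := by
    rcases hc with rfl | rfl | rfl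
    exacts [msk_ok.1, msk_ok.2.1, msk_ok.2.2]
  obtain ⟨hroot, hr0, hr23⟩ : inCode (ent (mskOf w) 0).1 = true ∧ (ent (mskOf w) 0).1.testBit 0 = false ∧
      (ent (mskOf w) 0).1.testBit 23 = false := by
    rcases hc with rfl | rfl | rfl <;> decide +kernel
  obtain ⟨r, -, hre⟩ := exists_diag2 hroot hr0 hr23
  exact (msk_conj hok i hi _ hmc hre e).symm.trans (msk_conj hok i' hi' _ hmc' hre e')

end Cfsg.Agent.Co2Close
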