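import Cfsg.Agent.Lib.Co2Recog.Close.C0Data
import Cfsg.Agent.Lib.Co2Recog.Close.ClassesData
import Cfsg.Agent.Lib.Co2Recog.Close.MaskData
import Cfsg.Agent.Lib.Co2Recog.Close.SylowData
import Cfsg.Agent.Lib.Co2Recog.Edge.Codes
import Cfsg.Agent.Lib.Co2Recog.Model.Basic

/-!
Tests for the conjugation of involutions to sign changes.
-/

set_option autoImplicit false

namespace Cfsg.Agent.Co2Close

open Cfsg Cfsg.Agent.Golay Cfsg.Agent.PermCert
open Cfsg.Agent.Co2Recog.Layers (monoOK elemOK)
open Cfsg.Agent.Co2Recog.Edge (negCode)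
open Cfsg.Agent.Co2Graph (stepsC zeroFree mnOK permAt)

/-- The masks vanishing at the pair. -/
def c0List : List ℕ := spanList c0Basis

/-- The word carries the images of the axes to the listed columns. -/
def crOK (j : ℕ) : Bool :=
  allBelow (fun i => stepsC ((crW.getD j []).map some) (sigA.getD i 0) fun q =>
    Nat.beq q ((crAt j).getD i 0) && zeroFree q) 24

/-- The coded monomial element fixes the lines of the cross. -/
def witOK (e : Elt) (c j : ℕ) : Bool :=
  elemOK e c && allBelow (fun i =>
    monoOK ((crAt j).getD i 0) ((crAt j).getD i 0) e c ||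
      monoOK ((crAt j).getD i 0) (negCode ((crAt j).getD i 0)) e c) 24

/-- The permutation is not an involution, or every mask it fixes reduces to a representative. -/
def invOK (k : ℕ) : Bool :=
  Nat.beq k 0 || !(Nat.beq (PermCert.mul 5 24 (pAt k) (pAt k)).1 (idCode 5 24)) ||
    ((imAt (invIdx.getD k 0)).all (fun z =>
        inCode z.2 && !z.2.testBit 0 && !z.2.testBit 23 && Nat.beq z.1 (z.2 ^^^ imgMask (pAt k) z.2)) &&
      (wtAt (invIdx.getD k 0)).all (fun w => Nat.blt w.2 71 && witOK (pAt k) w.1 w.2) &&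
      c0List.all fun c => !(Nat.beq (imgMask (pAt k) c) c) ||
        (wtAt (invIdx.getD k 0)).any fun w => (imAt (invIdx.getD k 0)).any fun z => Nat.beq z.1 (c ^^^ w.1))

/-- A range of permutations. -/
def invRange (a : ℕ) : Bool := allBelow (fun i => invOK (a + i)) 32

/-- An orbit list: each entry is the first or an image of an earlier one. -/
def mskOK (L : List (List (ℕ × ℕ × ℕ))) (n : ℕ) : Bool :=
  allBelow (fun i => Nat.beq i 0 ||
    (Nat.blt ((L.getD (i / 64) []).getD (i % 64) (0, 0, 0)).2.1 i &&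
      mnOK (((L.getD (i / 64) []).getD (i % 64) (0, 0, 0)).2.2, 0) &&
      Nat.beq ((L.getD (i / 64) []).getD (i % 64) (0, 0, 0)).1
        (imgMask (permAt ((L.getD (i / 64) []).getD (i % 64) (0, 0, 0)).2.2)
          ((L.getD ((((L.getD (i / 64) []).getD (i % 64) (0, 0, 0)).2.1) / 64) []).getD
            ((((L.getD (i / 64) []).getD (i % 64) (0, 0, 0)).2.1) % 64) (0, 0, 0)).1))) n

/-- The list of a weight. -/
def mskOf (w : ℕ) : List (List (ℕ × ℕ × ℕ)) :=
  bif Nat.beq w 8 then msk8 else bif Nat.beq w 12 then msk12 else msk16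

/-- The size of the list of a weight. -/
def mskLen (w : ℕ) : ℕ := bif Nat.beq w 8 then 330 else bif Nat.beq w 12 then 616 else 77

/-- Every nonzero mask is in the list of its weight. -/
def mskCover : Bool :=
  c0List.all fun c => Nat.beq c 0 || (forceW (popCount c 24) fun w =>
    (Nat.beq w 8 || Nat.beq w 12 || Nat.beq w 16) &&
      (mskOf w).any fun l => l.any fun y => Nat.beq y.1 c)
where
  /-- Evaluate once. -/
  forceW (n : ℕ) (k : ℕ → Bool) : Bool := match n with
    | 0 => k 0
    | m + 1 => k (m + 1)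

end Cfsg.Agent.Co2Close
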