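import Cfsg.Agent.Lib.Co2Recog.Close.Data
import Cfsg.Agent.Lib.Co1Recog.Endgame.Defs

/-!
The Boolean checks of the last step of the recognition of the second Conway group, on coded monomial elements
fixing the pair.
-/

set_option autoImplicit false
set_option maxRecDepth 100000

namespace Cfsg.Agent.Co2Close

open Cfsg.Agent.Golay Cfsg.Agent.PermCert
open Cfsg.Agent.Co1Endgame (Mo idElt okMo pMask fixMask commB prodEqB force forceElt withImgs spanAll
  halfBasis)

/-- The octad involution. -/
abbrev tMask : ℕ := E8Cent.xMask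

/-- The octad sign change. -/
def bMask : ℕ := uMask ^^^ tMask

/-- The code of a sign change. -/
def dMo (m : ℕ) : Mo := (m, idElt)

/-- A permutation fixing the pair. -/
def pairB (e : Elt) : Bool :=
  (Nat.beq (get 5 e.1 0) 0 && Nat.beq (get 5 e.1 23) 23) || (Nat.beq (get 5 e.1 0) 23 && Nat.beq (get 5 e.1 23) 0)

/-- A code of a monomial element fixing the pair. -/
def okM (e : Mo) : Bool := okMo e && !e.1.testBit 0 && !e.1.testBit 23 && pairB e.2

/-- A code of a sign change fixing the pair. -/
def okD (m : ℕ) : Bool := inCode m && !m.testBit 0 && !m.testBit 23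

/-- The trace of a product, shifted by 24. -/
def trN (e f : Mo) : ℕ :=
  force (fixMask e.2 f.2) fun F => 24 + popCount F 24 - 2 * popCount (pMask e f &&& F) 24

/-- The sums of subsets. -/
def spanX (gs : List ℕ) : List ℕ := gs.foldl (fun V g => V ++ V.map (g ^^^ ·)) [0]

/-- Membership in a list of numbers. -/
def memB (x : ℕ) (l : List ℕ) : Bool := l.any fun y => Nat.beq y x

/-- The code of the identity. -/
abbrev oneM : Mo := Co1Endgame.oneMo

/-- A candidate. -/
def candAt (k : ℕ) : Mo := candList.getD k oneM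

/-- One of the two ways of fusing is impossible. -/
def killOK (F V : List ℕ) (c : Mo) (cs kill : ℕ) : Bool :=
  bif Nat.beq cs 0 then
    Nat.blt kill (F.length + 1) && !Nat.beq (trN c (dMo (tMask ^^^ (0 :: F).getD kill 0))) 16
  else
    Nat.beq cs 1 && Nat.blt kill V.length &&
      !Nat.beq (trN c (dMo (tMask ^^^ V.getD kill 0))) (trN (dMo (tMask ^^^ V.getD kill 0)) oneM)

/-- The code of a flagged element. -/
def srcMo (F V : List ℕ) (c : Mo) (r idx : ℕ) : Mo :=
  match r with
  | 0 => c
  | 1 => dMo (F.getD idx 0)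
  | 2 => (F.getD idx 0 ^^^ c.1, c.2)
  | 3 => dMo (V.getD idx 0)
  | _ => (V.getD idx 0 ^^^ c.1, c.2)

/-- The product with a flagged element is in the class of the octad involution. -/
def srcOK (F V : List ℕ) (c : Mo) (cs r idx : ℕ) : Bool :=
  match r with
  | 0 => true
  | 1 => Nat.blt idx F.length
  | 2 => Nat.beq cs 0 && Nat.blt idx F.length
  | 3 => Nat.beq cs 1 && Nat.blt idx V.length && Nat.beq (trN c (dMo (tMask ^^^ V.getD idx 0))) 16
  | 4 => Nat.beq cs 1 && Nat.blt idx V.length && Nat.beq (trN (dMo (tMask ^^^ V.getD idx 0)) oneM) 16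
  | _ => false

/-- The span with the candidate. -/
def spanI (V : List ℕ) (c : Mo) : List Mo := V.map dMo ++ V.map fun m => (m ^^^ c.1, c.2)

/-- Conjugation carries the chosen elements to the target. -/
def conjTo (p : Mo) : List Mo → List ℕ → Bool
  | [], [] => true
  | x :: xs, y :: ys => okM x && prodEqB p x (dMo y) p && conjTo p xs ys
  | _, _ => false

/-- A witness. -/
def candWitOK (n : ℕ) (gs F V : List ℕ) (c : Mo) : Wit → Bool
  | .skip k => Nat.blt k gs.length && !commB c (dMo (gs.getD k 0))
  | .hit k => Nat.blt k V.length && Nat.beq (trN c (dMo (V.getD k 0))) 16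
  | .clash e f => killOK F V c 1 e && killOK F V c 0 f
  | .toU cs kill r idx =>
    !Nat.blt n 5 && killOK F V c cs kill && srcOK F V c cs r idx &&
      Nat.beq (trN (srcMo F V c r idx) oneM) 24
  | .kid cs kill tgt perm gsrc fs =>
    killOK F V c cs kill && Nat.blt n tgt && Nat.blt tgt nodeList.length && (!Nat.blt n 5 || Nat.blt tgt 5) &&
      okM (0, kidPerms.getD perm idElt) &&
      (gsrc.all fun j => Nat.blt j (2 * V.length)) &&
      conjTo (0, kidPerms.getD perm idElt) (gsrc.map fun j => (spanI V c).getD j oneM)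
        (nodeList.getD tgt ([], [], 0, [])).1 &&
      (fs.all fun s => srcOK F V c cs s.1 s.2) &&
      conjTo (0, kidPerms.getD perm idElt) (fs.map fun s => srcMo F V c s.1 s.2)
        (nodeList.getD tgt ([], [], 0, [])).2.1

/-- The witnesses along the candidates. -/
def witsOK (n : ℕ) (gs F V : List ℕ) : List Mo → List Wit → Bool
  | [], [] => true
  | c :: cs, w :: ws => candWitOK n gs F V c w && witsOK n gs F V cs ws
  | _, _ => false

/-- A node. -/
def nodeOK (n : ℕ) : Bool :=
  let nd := nodeList.getD n ([], [], 0, [])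
  nd.1.all okD && (spanX nd.1).all okD &&
    (nd.2.1.all fun f => memB f (spanX nd.1)) && Nat.blt nd.2.2.1 nd.2.1.length &&
    !Nat.beq (trN (dMo (tMask ^^^ nd.2.1.getD nd.2.2.1 0)) oneM) 16 &&
    (memB uMask (spanX nd.1) || memB bMask (spanX nd.1)) &&
    witsOK n nd.1 nd.2.1 (spanX nd.1) candList nd.2.2.2

/-- A candidate in the list with the given mask and permutation. -/
def inCand (m : ℕ) (e : Elt) : Bool :=
  candList.any fun c => Nat.beq c.1 m && Nat.beq c.2.1 e.1 && Nat.beq c.2.2 e.2

/-- The candidates are complete for one permutation. -/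
def permChk (e0 : Elt) : Bool :=
  forceElt e0 fun e => !allBelow (fun k => Nat.beq (get 5 e.1 (get 5 e.1 k)) k) 24 ||
    force (fixMask e idElt) fun F => force (imgMask e tMask) fun iT => withImgs e halfBasis fun ps =>
      spanAll (fun m i => m.testBit 0 || !Nat.beq (m ^^^ i) 0 ||
        !Nat.beq (24 + popCount F 24 - 2 * popCount ((m ^^^ iT) &&& F) 24) 16 ||
        (Nat.beq m 0 && Nat.beq e.1 idElt.1 && Nat.beq e.2 idElt.2) || inCand m e) ps 0 0

/-- A sign change is trivial or of one of the three traces. -/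
def diagChk : Bool :=
  withImgs idElt halfBasis fun ps =>
    spanAll (fun m _ => m.testBit 0 || Nat.beq m 0 || Nat.beq (trN (dMo m) oneM) 16 ||
      Nat.beq (trN (dMo m) oneM) 24 || Nat.beq (trN (dMo m) oneM) 32) ps 0 0

end Cfsg.Agent.Co2Close
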