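import Cfsg.Agent.Lib.Co2Recog.Close.Tree

/-!
A finite group containing the second Conway group with the centraliser of the octad involution inside it, and in
which fusion of involutions is that of the subgroup, is the second Conway group.
-/

set_option autoImplicit false
set_option maxRecDepth 20000
set_option linter.unusedSectionVars false

noncomputable section

namespace Cfsg.Agent.Co2Close

open Cfsg Cfsg.Agent.Golay Cfsg.Agent.PermCert
open Cfsg.Agent.Co1Endgame (idElt idElt_perm halfBasis)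

attribute [local irreducible] nodeList candList stabList uMask halfBasis spanList

universe u

variable {G : Type u} [Group G]

/-- The sign changes have three traces. -/
theorem tr_A2 {d : ↥Spor.Co2} (hd : d ∈ Co2Recog.Side.A2) (h1 : d ≠ 1) :
    tr d = -64 ∨ tr d = 0 ∨ tr d = 64 := by
  obtain ⟨c, hc⟩ := hd
  obtain ⟨m, hm, hok, rfl⟩ := exists_code (a := ((1 : M24), c)) hc idElt_ok.1 idElt_ok.2.1 idElt_perm idElt_ok.2.2
  have h := diag_ok
  rw [diagChk, Co1Endgame.withImgs_eq] at h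
  have hf := Co1Endgame.spanAll_spec _ idElt halfBasis 0 0 h m hm
  simp only [Nat.zero_xor, (okM_parts hok).2.1, Bool.false_or, Bool.or_eq_true, Nat.beq_eq] at hf
  have ht := tr_moEl hok
  rw [show ((m, idElt) : Co1Endgame.Mo) = dMo m from rfl] at ht ⊢
  rcases hf with ((r | r) | r) | r
  · exfalso; refine h1 ?_; rw [r]; exact moEl_one
  all_goals rw [r] at ht; rw [ht]; norm_num

/-- The hypotheses from the facts on classes and fusion. -/
theorem Hyp.of {phi : ↥Spor.Co2 →* G} (inj : Function.Injective phi)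
    (hC : ∀ g, g * phi E8Cent.t2 = phi E8Cent.t2 * g → g ∈ phi.range)
    (cls : ∀ a : ↥Spor.Co2, a * a = 1 → ∃ d ∈ Co2Recog.Side.A2, IsConj a d)
    (ofTr : ∀ a b : ↥Spor.Co2, a * a = 1 → b * b = 1 →
      Co1Endgame.trA (Co2Recog.Layers.incl2 a) = Co1Endgame.trA (Co2Recog.Layers.incl2 b) → IsConj a b)
    (fus : ∀ a b : ↥Spor.Co2, a ∈ Co2Recog.Side.A2 → b ∈ Co2Recog.Side.A2 → IsConj (phi a) (phi b) → IsConj a b) :
    Hyp phi where
  inj := inj
  centre := hC
  conjTr := ofTr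
  trEq := fun a b ha hb h => by
    obtain ⟨d, hd, had⟩ := cls a ha
    obtain ⟨e, he, hbe⟩ := cls b hb
    exact tr_conj ((had.trans (fus d e hd he (((phi.map_isConj had).symm.trans h).trans (phi.map_isConj hbe)))).trans
      hbe.symm)
  trVal := fun a ha h1 => by
    obtain ⟨d, hd, had⟩ := cls a ha
    rw [tr_conj had]
    refine tr_A2 hd fun e => h1 ?_
    subst e
    exact isConj_one_left.1 had

variable {phi : ↥Spor.Co2 →* G} (H : Hyp phi)
include H

/-- A conjugate of the octad involution commuting with one of the two other sign changes lies in the group. -/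
theorem Hyp.z_cent [Finite G] {m a : ℕ} (hm : okD m = true) (ha : okD a = true)
    (h1 : trN (dMo a) oneM = 16) (h2 : trN (dMo (a ^^^ m)) oneM = 16) (hcore : Core phi (moEl (dMo m)))
    {x : G} (hx : IsConj x (phi E8Cent.t2)) (hc : Commute x (phi (moEl (dMo m)))) : x ∈ phi.range := by
  by_contra hout
  set A := phi (moEl (dMo a)) with hA
  have hta : tr (moEl (dMo a)) = -64 := by rw [tr_moEl (dMo_ok ha), h1]; norm_num
  have hAT : IsConj A (phi E8Cent.t2) := H.conjT (dEl_sq ha) hta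
  have hA2 : A * A = 1 := by rw [hA, ← map_mul, dEl_sq ha, map_one]
  have hx2 : x * x = 1 := H.sq_conj hx t2_sq
  have hAg : Commute (phi (moEl (dMo m))) A := by
    show _ = _
    rw [hA, ← map_mul, ← map_mul, dEl_comm hm ha]
  rcases dihedral hA2 hx2 with ⟨c, hcb, hcx⟩ | ⟨j, hj2, hj1, hjA, hjx, -, hfuse⟩
  · refine hout (hcore x hx hc ((conj_mul_comm (hcb _ hAg hc.symm) hcx).symm.trans ?_))
    rw [hA, ← map_mul, dEl_xor ha hm]
    refine H.conjT (dEl_sq (okD_xor ha hm)) ?_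
    rw [tr_moEl (dMo_ok (okD_xor ha hm)), h2]; norm_num
  · obtain ⟨j0, rfl⟩ := H.centT (dEl_sq ha) hta hjA
    have hj0 : j0 * j0 = 1 := H.inj (by rw [map_mul, hj2, map_one])
    have hxj : IsConj (x * phi j0) (phi E8Cent.t2) := by
      rcases hfuse with ⟨c, d, -, -, -, hd⟩ | ⟨c, d, -, -, hc', -⟩
      · exact ((isConj_iff.2 ⟨d, hd⟩ : IsConj x (x * phi j0)).symm).trans hx
      · exact ((isConj_iff.2 ⟨c, hc'⟩ : IsConj A (x * phi j0)).symm).trans hAT
    have hcases : ∀ g : ↥Spor.Co2, g * g = 1 → Core phi g → tr j0 = tr g → x ∈ phi.range := fun g hg hcg ht => by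
      obtain ⟨h, hh⟩ := isConj_iff.1 (H.conjTr j0 g hj0 hg ht)
      refine H.transport h (hcg _ (IsConj.trans (isConj_iff.2 ⟨(phi h)⁻¹, by group⟩) hx) ?_ ?_)
      · rw [← hh, map_mul, map_mul, map_inv]
        exact hjx.symm.map (MulAut.conj (phi h)).toMonoidHom
      · rw [← hh, map_mul, map_mul, map_inv]
        exact IsConj.trans (isConj_iff.2 ⟨(phi h)⁻¹, by group⟩) hxj
    rcases H.trVal j0 hj0 (fun e => hj1 (by rw [e, map_one])) with r | r | r
    · exact hout (H.centT hj0 r hjx.symm)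
    · exact hout (hcases uEl (dEl_sq basic_ok.2.1) H.core_u (r.trans tr_u.symm))
    · exact hout (hcases bEl (dEl_sq basic_ok.2.2.1) H.core_b (r.trans tr_b.symm))

theorem Hyp.z_cent_u [Finite G] {x : G} (hx : IsConj x (phi E8Cent.t2)) (hc : Commute x (phi uEl)) :
    x ∈ phi.range :=
  H.z_cent basic_ok.2.1 basic_ok.2.2.2.1 basic_ok.2.2.2.2.2.2.2.2.1 basic_ok.2.2.2.2.2.2.2.2.2.1 H.core_u hx hc

theorem Hyp.z_cent_b [Finite G] {x : G} (hx : IsConj x (phi E8Cent.t2)) (hc : Commute x (phi bEl)) :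
    x ∈ phi.range :=
  H.z_cent basic_ok.2.2.1 basic_ok.2.2.2.2.1 basic_ok.2.2.2.2.2.2.2.2.2.2.1
    basic_ok.2.2.2.2.2.2.2.2.2.2.2.1 H.core_b hx hc

/-- The centraliser of the dodecad sign change lies in the group. -/
theorem Hyp.cent_u [Finite G] {g : G} (hg : Commute g (phi uEl)) : g ∈ phi.range := by
  have ha := basic_ok.2.2.2.1
  set a := moEl (dMo 8277246) with hadef
  have hta : tr a = -64 := by rw [hadef, tr_moEl (dMo_ok ha), basic_ok.2.2.2.2.2.2.2.2.1]; norm_num
  have hau : Commute (phi a) (phi uEl) := by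
    show _ = _
    rw [hadef, uEl, ← map_mul, ← map_mul, dEl_comm ha basic_ok.2.1]
  have hy : IsConj (g * phi a * g⁻¹) (phi E8Cent.t2) :=
    IsConj.trans (isConj_iff.2 ⟨g⁻¹, by rw [hadef]; group⟩) (H.conjT (dEl_sq ha) hta)
  obtain ⟨b, hb⟩ := H.z_cent_u hy ((hg.mul_left hau).mul_left hg.inv_left)
  have hb2 : b * b = 1 := H.inj (by rw [map_mul, map_one, H.sq_conj (hb.symm ▸ hy) t2_sq])
  obtain ⟨h, hh⟩ := isConj_iff.1 (H.conjTr b a hb2 (dEl_sq ha) ((H.tr_of hb2 (hb.symm ▸ hy)).trans hta.symm))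
  have hcm : Commute (phi h * g) (phi a) := by
    show _ = _
    have e : phi h * (g * phi a * g⁻¹) * (phi h)⁻¹ = phi a := by
      rw [← hb, ← map_inv, ← map_mul, ← map_mul, hh]
    calc phi h * g * phi a = phi h * (g * phi a * g⁻¹) * (phi h)⁻¹ * (phi h * g) := by group
      _ = _ := by rw [e]
  rw [← inv_mul_cancel_left (phi h) g]
  exact mul_mem (inv_mem ⟨_, rfl⟩) (H.centT (dEl_sq ha) hta hcm)

/-- Every conjugate of the octad involution lies in the group. -/
theorem Hyp.z_mem [Finite G] {x : G} (hx : IsConj x (phi E8Cent.t2)) : x ∈ phi.range := by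
  by_contra hout
  have hx2 : x * x = 1 := H.sq_conj hx t2_sq
  have hu2 : uEl * uEl = 1 := dEl_sq basic_ok.2.1
  have hU2 : phi uEl * phi uEl = 1 := by rw [← map_mul, hu2, map_one]
  rcases dihedral hU2 hx2 with ⟨c, -, hcx⟩ | ⟨i, hi2, hi1, hiU, hix, -, -⟩
  · have := H.tr_of hu2 ((isConj_iff.2 ⟨c, hcx⟩ : IsConj (phi uEl) x).trans hx)
    rw [tr_u] at this
    norm_num at this
  · obtain ⟨i0, rfl⟩ := H.cent_u hiU
    have hi0 : i0 * i0 = 1 := H.inj (by rw [map_mul, hi2, map_one])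
    have hcases : ∀ g : ↥Spor.Co2, g * g = 1 → tr i0 = tr g →
        (∀ y : G, IsConj y (phi E8Cent.t2) → Commute y (phi g) → y ∈ phi.range) → x ∈ phi.range :=
      fun g hg ht hzc => by
      obtain ⟨h, hh⟩ := isConj_iff.1 (H.conjTr i0 g hi0 hg ht)
      refine H.transport h (hzc _ (IsConj.trans (isConj_iff.2 ⟨(phi h)⁻¹, by group⟩) hx) ?_)
      rw [← hh, map_mul, map_mul, map_inv]
      exact hix.symm.map (MulAut.conj (phi h)).toMonoidHom
    rcases H.trVal i0 hi0 (fun e => hi1 (by rw [e, map_one])) with r | r | r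
    · exact hout (H.centT hi0 r hix.symm)
    · exact hout (hcases uEl hu2 (r.trans tr_u.symm) fun y hy hyc => H.z_cent_u hy hyc)
    · exact hout (hcases bEl (dEl_sq basic_ok.2.2.1) (r.trans tr_b.symm) fun y hy hyc => H.z_cent_b hy hyc)

/-- **The closing step.** -/
theorem Hyp.surjective [Finite G] : Function.Surjective phi := by
  intro g
  have hy : IsConj (g * phi E8Cent.t2 * g⁻¹) (phi E8Cent.t2) := isConj_iff.2 ⟨g⁻¹, by group⟩
  obtain ⟨b, hb⟩ := H.z_mem hy
  have hb2 : b * b = 1 := H.inj (by rw [map_mul, map_one, H.sq_conj (hb.symm ▸ hy) t2_sq])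
  obtain ⟨h, hh⟩ := isConj_iff.1 (H.conjTr b E8Cent.t2 hb2 t2_sq ((H.tr_of hb2 (hb.symm ▸ hy)).trans tr_t2.symm))
  have hm : phi h * g ∈ phi.range := by
    refine H.centre _ ?_
    have e : phi h * (g * phi E8Cent.t2 * g⁻¹) * (phi h)⁻¹ = phi E8Cent.t2 := by
      rw [← hb, ← map_inv, ← map_mul, ← map_mul, hh]
    calc phi h * g * phi E8Cent.t2 =
        phi h * (g * phi E8Cent.t2 * g⁻¹) * (phi h)⁻¹ * (phi h * g) := by group
      _ = _ := by rw [e]
  obtain ⟨k, hk⟩ := hm
  exact ⟨h⁻¹ * k, by rw [map_mul, map_inv, hk, inv_mul_cancel_left]⟩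

end Cfsg.Agent.Co2Close
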