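import Cfsg.Agent.Lib.Co2Recog.Close.FusionData
import Cfsg.Agent.Lib.Co1Recog.Endgame.Defs

/-!
Kernel check: an elementary abelian group of permutations of the Sylow subgroup, times the words of the sign
changes it fixes, is smaller than 1024 unless it is trivial.
-/

set_option autoImplicit false
set_option maxRecDepth 100000
set_option maxHeartbeats 0

namespace Cfsg.Agent.Co2Close

open Cfsg.Agent.Golay Cfsg.Agent.PermCert
open Cfsg.Agent.Co1Endgame (force forceElt samePP mulE halfBasis idElt)

/-- Equality of coded permutations. -/
def eqE (a b : Elt) : Bool := Nat.beq a.1 b.1 && Nat.beq a.2 b.2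

/-- Evaluate numbers before handing them on. -/
def forceNs : List ℕ → (List ℕ → Bool) → Bool
  | [], k => k []
  | a :: l, k => force a fun a' => forceNs l fun l' => k (a' :: l')

/-- Evaluate coded permutations before handing them on. -/
def forceEs : List Elt → (List Elt → Bool) → Bool
  | [], k => k []
  | a :: l, k => forceElt a fun a' => forceEs l fun l' => k (a' :: l')

/-- The fixed words avoiding the pair, by position, from the words and their images. -/
def fixIdx : List ℕ → List ℕ → ℕ → List ℕ
  | m :: ms, im :: ims, i =>
    bif Nat.beq im m && !m.testBit 0 then i :: fixIdx ms ims (i + 1) else fixIdx ms ims (i + 1)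
  | _, _, _ => []

/-- The fixed words of a permutation, by position in the span of the basis. -/
def fixWords (e : Elt) : List ℕ := fixIdx (spanList halfBasis) (spanList (halfBasis.map (imgMask e))) 0

/-- A list of positions as a number. -/
def bitsOf (l : List ℕ) : ℕ := l.foldr (fun i acc => 2 ^ i ||| acc) 0

/-- The span with a new involution may be skipped: it does not commute, or is not the least of its coset. -/
def skipB (j : ℕ) (x : Elt) (V : List Elt) : Bool :=
  V.any (fun v => !samePP x v v x) || V.any (fun v => eqE x v) ||
    V.any fun v => forceElt (mulE x v) fun p => (invList.take j).any fun i => eqE i p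

/-- The search: the non-trivial elements V of a group and the positions F of the words fixed by it. -/
def search (fb : List ℕ) : ℕ → ℕ → List Elt → List ℕ → Bool
  | 0, _, _, _ => false
  | fuel + 1, start, V, F =>
    Nat.blt (F.length * (V.length + 1)) 1024 &&
      allBelow (fun d => forceElt (invList.getD (start + d) idElt) fun x =>
        skipB (start + d) x V ||
          ((V.all fun v => validElt 5 24 (mulE x v)) &&
            force (fb.getD (start + d) 0) fun b =>
              forceEs (x :: V ++ V.map (mulE x)) fun V' => forceNs (F.filter fun i => b.testBit i) fun F' =>
                search fb fuel (start + d + 1) V' F'))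
        (invList.length - start)

/-- Evaluate lists of numbers before handing them on. -/
def forceNss : List (List ℕ) → (List (List ℕ) → Bool) → Bool
  | [], k => k []
  | a :: l, k => forceNs a fun a' => forceNss l fun l' => k (a' :: l')

/-- All non-trivial groups. -/
def searchAll : Bool :=
  forceNss (invList.map fixWords) fun fl => forceNs (fl.map bitsOf) fun fb =>
    allBelow (fun j => forceElt (invList.getD j idElt) fun x => search fb 7 (j + 1) [x] (fl.getD j [])) invList.length

theorem inv_ok : invList.all (fun e => validElt 5 24 e) = true ∧ invList.length = 71 ∧
    ((spanList halfBasis).filter fun m => !m.testBit 0).length = 1024 := by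
  decide +kernel

theorem search_ok : searchAll = true := by decide +kernel

end Cfsg.Agent.Co2Close
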