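import Cfsg.Agent.Lib.Co2Recog.Close.Sylow
import Cfsg.Agent.Lib.Co2Recog.Close.Cand
import Cfsg.Agent.Lib.Co2Recog.Close.FusionChecks

/-!
The sign changes are the only elementary abelian subgroup of order 1024 of the monomial Sylow 2-subgroup; so in
a group containing the second Conway group with their normaliser inside, they fuse as in the second Conway group.
-/

set_option autoImplicit false
set_option maxRecDepth 20000
set_option linter.style.haveILetI false
set_option linter.unusedSectionVars false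

noncomputable section

namespace Cfsg.Agent.Co2Close

open Cfsg Cfsg.Agent.Golay Cfsg.Agent.Leech Cfsg.Agent.PermCert
open Cfsg.Agent.Co2Recog.Layers (incl2 N2)
open Cfsg.Agent.Co1Endgame (idElt halfBasis samePP mulE force_eq idElt_perm)
open scoped Pointwise

attribute [local irreducible] invList halfBasis spanList

/-! ### The search -/

theorem forceE_eq {α : Type} (e : Elt) (k : Elt → α) : Co1Endgame.forceElt e k = k e := by
  rw [Co1Endgame.forceElt, force_eq, force_eq]

theorem forceNs_eq : ∀ (l : List ℕ) (k : List ℕ → Bool), forceNs l k = k l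
  | [], _ => rfl
  | a :: l, k => by rw [forceNs, force_eq, forceNs_eq l]

theorem forceEs_eq : ∀ (l : List Elt) (k : List Elt → Bool), forceEs l k = k l
  | [], _ => rfl
  | a :: l, k => by rw [forceEs, forceE_eq, forceEs_eq l]

theorem forceNss_eq : ∀ (l : List (List ℕ)) (k : List (List ℕ) → Bool), forceNss l k = k l
  | [], _ => rfl
  | a :: l, k => by rw [forceNss, forceNs_eq, forceNss_eq l]

theorem bitsOf_spec : ∀ (l : List ℕ) (i : ℕ), i ∈ l → (bitsOf l).testBit i = true
  | a :: l, i, hi => by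
    show (2 ^ a ||| bitsOf l).testBit i = true
    rw [Nat.testBit_or, Bool.or_eq_true]
    rcases List.mem_cons.1 hi with rfl | r
    · exact Or.inl (Nat.testBit_two_pow_self)
    · exact Or.inr (bitsOf_spec l i r)

theorem fixIdx_spec : ∀ (ms ims : List ℕ) (i j : ℕ), ms.length = ims.length → j < ms.length →
    ims.getD j 0 = ms.getD j 0 → (ms.getD j 0).testBit 0 = false → i + j ∈ fixIdx ms ims i
  | [], _, _, j, _, hj, _, _ => by simp at hj
  | _ :: _, [], _, _, hl, _, _, _ => by simp at hl
  | m :: ms, im :: ims, i, j, hl, hj, h1, h2 => by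
    simp only [List.length_cons, Nat.add_right_cancel_iff] at hl
    cases j with
    | zero =>
      simp only [List.getD_cons_zero] at h1 h2
      rw [fixIdx, h1, show Nat.beq m m = true from Nat.beq_eq.mpr rfl, h2]
      simp
    | succ j =>
      simp only [List.getD_cons_succ, List.length_cons, Nat.add_lt_add_iff_right] at h1 h2 hj
      have := fixIdx_spec ms ims (i + 1) j hl hj h1 h2
      rw [show i + (j + 1) = i + 1 + j by omega, fixIdx]
      cases (Nat.beq im m && !m.testBit 0) <;> simp [this]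

theorem spanList_imgs (e : Elt) : ∀ l : List ℕ, spanList (l.map (imgMask e)) = (spanList l).map (imgMask e)
  | [] => by simp [spanList, imgMask_zero]
  | b :: l => by
    simp only [List.map_cons, spanList, spanList_imgs e l, List.map_append, List.map_map]
    congr 1
    refine List.map_congr_left fun x _ => ?_
    simp [imgMask_xor]

theorem mulE_perm {x v : Elt} (hx : validElt 5 24 x = true) (hv : validElt 5 24 v = true)
    (h : validElt 5 24 (mulE x v) = true) : permOf (mulE x v) = permOf x * permOf v := by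
  refine Equiv.ext fun p => idx_injective ?_
  rw [idx_permOf h, Co1Endgame.idx_mul hx hv, mulE, get_pack _ _ _ _ (idx_lt p),
    Nat.mod_eq_of_lt (get_lt _ _ _)]

theorem samePP_of_comm {x v : Elt} (hx : validElt 5 24 x = true) (hv : validElt 5 24 v = true)
    (h : permOf x * permOf v = permOf v * permOf x) : samePP x v v x = true := by
  rw [samePP]
  refine Co1Endgame.allBelow_of 24 fun k hk => ?_
  rw [Nat.beq_eq]
  have := congrArg (fun σ : Equiv.Perm GolayPt => idx (σ (pt ⟨k, hk⟩))) h
  simpa only [Co1Endgame.idx_mul hx hv, Co1Endgame.idx_mul hv hx, idx_pt] using this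

theorem eqE_iff {a b : Elt} : eqE a b = true ↔ a = b := by
  rw [eqE, Bool.and_eq_true, Nat.beq_eq, Nat.beq_eq, Prod.ext_iff]

theorem valid_inv {j : ℕ} (hj : j < invList.length) : validElt 5 24 (invList.getD j idElt) = true := by
  refine List.all_eq_true.1 inv_ok.1 _ ?_
  rw [List.getD_eq_getElem _ _ hj]
  exact List.getElem_mem _

/-- The permutation of an involution in the list. -/
def invPerm (j : ℕ) : Equiv.Perm GolayPt := permOf (invList.getD j idElt)

/-- The group generated so far: one and the listed elements. -/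
def InW (V : List Elt) (σ : Equiv.Perm GolayPt) : Prop := σ = 1 ∨ ∃ v ∈ V, σ = permOf v

section search

variable (R : Subgroup (Equiv.Perm GolayPt)) (hR2 : ∀ σ ∈ R, σ * σ = 1)
  (hin : ∀ σ ∈ R, σ ≠ 1 → ∃ j < invList.length, invPerm j = σ)
  (fb : List ℕ) (Fix : Finset ℕ)
  (hfix : ∀ i ∈ Fix, ∀ j < invList.length, invPerm j ∈ R → (fb.getD j 0).testBit i = true)
include hR2 hin hfix

theorem comm_R {σ τ : Equiv.Perm GolayPt} (hσ : σ ∈ R) (hτ : τ ∈ R) : σ * τ = τ * σ := by
  calc σ * τ = (σ * τ)⁻¹ := (inv_eq_of_mul_eq_one_right (hR2 _ (mul_mem hσ hτ))).symm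
    _ = τ * σ := by
      rw [mul_inv_rev, inv_eq_of_mul_eq_one_right (hR2 _ hσ), inv_eq_of_mul_eq_one_right (hR2 _ hτ)]

theorem search_spec : ∀ (fuel start : ℕ) (V : List Elt) (F : List ℕ), search fb fuel start V F = true →
    (∀ v ∈ V, validElt 5 24 v = true ∧ permOf v ∈ R) →
    (∀ σ τ, InW V σ → InW V τ → InW V (σ * τ)) →
    (∀ j < start, j < invList.length → invPerm j ∈ R → InW V (invPerm j)) →
    (∀ i ∈ Fix, i ∈ F) → Nat.card R * Fix.card < 1024
  | 0, _, _, _, h, _, _, _, _ => by simp [search] at h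
  | fuel + 1, start, V, F, h, hV, hcl, hdone, hF => by
    rw [search, Bool.and_eq_true, Nat.blt_eq] at h
    by_cases hall : ∀ σ ∈ R, InW V σ
    · have hsub : (R : Set (Equiv.Perm GolayPt)) ⊆ ↑(insert (1 : Equiv.Perm GolayPt) (V.map permOf).toFinset) :=
        fun σ hσ => by
          simp only [Finset.coe_insert, Set.mem_insert_iff, Finset.mem_coe, List.mem_toFinset, List.mem_map]
          exact (hall σ hσ).imp id fun ⟨v, hv, e⟩ => ⟨v, hv, e.symm⟩
      have h1 : Nat.card R ≤ V.length + 1 := by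
        rw [← SetLike.coe_sort_coe, Nat.card_coe_set_eq]
        refine (Set.ncard_le_ncard hsub (Finset.finite_toSet _)).trans ?_
        rw [Set.ncard_coe_finset]
        refine (Finset.card_insert_le _ _).trans (Nat.add_le_add_right ?_ 1)
        exact (List.toFinset_card_le _).trans (by rw [List.length_map])
      have h2 : Fix.card ≤ F.length :=
        (Finset.card_le_card fun i hi => List.mem_toFinset.2 (hF i hi)).trans (List.toFinset_card_le _)
      calc Nat.card R * Fix.card ≤ (V.length + 1) * F.length := Nat.mul_le_mul h1 h2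
        _ = F.length * (V.length + 1) := Nat.mul_comm _ _
        _ < 1024 := h.1
    · have hex : ∃ j, j < invList.length ∧ invPerm j ∈ R ∧ ¬ InW V (invPerm j) := by
        push Not at hall
        obtain ⟨σ, hσ, hσW⟩ := hall
        obtain ⟨j, hj, rfl⟩ := hin σ hσ fun e => hσW (Or.inl e)
        exact ⟨j, hj, hσ, hσW⟩
      classical
      obtain ⟨hjl, hjR, hjW⟩ := Nat.find_spec hex
      have hmin : ∀ i < Nat.find hex, i < invList.length → invPerm i ∈ R → InW V (invPerm i) := fun i hi hl hr => by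
        by_contra hn
        exact Nat.find_min hex hi ⟨hl, hr, hn⟩
      set j := Nat.find hex
      have hsj : start ≤ j := by
        by_contra hlt
        exact hjW (hdone j (by omega) hjl hjR)
      have hd := allBelow_spec _ _ h.2 (j - start) (by omega)
      rw [show start + (j - start) = j by omega, forceE_eq] at hd
      set x := invList.getD j idElt
      have hx : validElt 5 24 x = true := valid_inv hjl
      rw [Bool.or_eq_true] at hd
      rcases hd with hs | hs
      · exfalso
        simp only [skipB, forceE_eq, Bool.or_eq_true, List.any_eq_true, Bool.not_eq_true', eqE_iff] at hs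
        rcases hs with (⟨v, hv, hc⟩ | ⟨v, hv, rfl⟩) | ⟨v, hv, i, hi, hie⟩
        · rw [samePP_of_comm hx (hV v hv).1 (comm_R R hR2 hin fb Fix hfix hjR (hV v hv).2)] at hc
          exact absurd hc (by decide)
        · exact hjW (Or.inr ⟨_, hv, rfl⟩)
        · obtain ⟨k, hk, rfl⟩ := List.getElem_of_mem hi
          rw [List.length_take] at hk
          have hkl : k < invList.length := lt_of_lt_of_le hk (min_le_right _ _)
          rw [List.getElem_take] at hie
          have hget : invList.getD k idElt = mulE x v := by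
            rw [List.getD_eq_getElem _ _ hkl]; exact hie
          have hpe : invPerm k = invPerm j * permOf v := by
            rw [invPerm, hget, mulE_perm hx (hV v hv).1 (hget ▸ valid_inv hkl)]; rfl
          have hw := hmin k (lt_of_lt_of_le hk (min_le_left _ _)) hkl (hpe ▸ mul_mem hjR (hV v hv).2)
          refine hjW ?_
          have hinv : invPerm j = invPerm k * permOf v := by
            rw [hpe, mul_assoc, hR2 _ (hV v hv).2, mul_one]
          rw [hinv]
          exact hcl _ _ hw (Or.inr ⟨v, hv, rfl⟩)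
      · simp only [Bool.and_eq_true, List.all_eq_true, force_eq, forceEs_eq, forceNs_eq] at hs
        obtain ⟨hval, hrec⟩ := hs
        have hmem : ∀ σ, InW (x :: V ++ V.map (mulE x)) σ ↔ InW V σ ∨ ∃ w, InW V w ∧ σ = permOf x * w := by
          intro σ
          constructor
          · rintro (rfl | ⟨v, hv, rfl⟩)
            · exact Or.inl (Or.inl rfl)
            · rcases List.mem_append.1 hv with r | r
              · rcases List.mem_cons.1 r with rfl | r
                · exact Or.inr ⟨1, Or.inl rfl, (mul_one _).symm⟩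
                · exact Or.inl (Or.inr ⟨v, r, rfl⟩)
              · obtain ⟨w, hw, rfl⟩ := List.mem_map.1 r
                exact Or.inr ⟨_, Or.inr ⟨w, hw, rfl⟩, mulE_perm hx (hV w hw).1 (hval w hw)⟩
          · rintro ((rfl | ⟨v, hv, rfl⟩) | ⟨w, rfl | ⟨v, hv, rfl⟩, rfl⟩)
            · exact Or.inl rfl
            · exact Or.inr ⟨v, List.mem_append.2 (Or.inl (List.mem_cons_of_mem _ hv)), rfl⟩
            · exact Or.inr ⟨x, List.mem_append.2 (Or.inl List.mem_cons_self), mul_one _⟩
            · exact Or.inr ⟨mulE x v, List.mem_append.2 (Or.inr (List.mem_map.2 ⟨v, hv, rfl⟩)),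
                (mulE_perm hx (hV v hv).1 (hval v hv)).symm⟩
        have hWR : ∀ σ, InW V σ → σ ∈ R := fun σ hσ => by
          rcases hσ with rfl | ⟨v, hv, rfl⟩
          · exact one_mem R
          · exact (hV v hv).2
        have hxR : permOf x ∈ R := hjR
        refine search_spec fuel _ _ _ hrec (fun v hv => ?_) (fun σ τ hσ hτ => ?_) (fun i hi hl hr => ?_)
          fun i hi => ?_
        · rcases List.mem_append.1 hv with r | r
          · rcases List.mem_cons.1 r with rfl | r
            · exact ⟨hx, hxR⟩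
            · exact hV v r
          · obtain ⟨w, hw, rfl⟩ := List.mem_map.1 r
            exact ⟨hval w hw, mulE_perm hx (hV w hw).1 (hval w hw) ▸ mul_mem hxR (hV w hw).2⟩
        · rw [hmem] at hσ hτ ⊢
          rcases hσ with hσ | ⟨w, hw, rfl⟩ <;> rcases hτ with hτ | ⟨w', hw', rfl⟩
          · exact Or.inl (hcl _ _ hσ hτ)
          · refine Or.inr ⟨σ * w', hcl _ _ hσ hw', ?_⟩
            rw [← mul_assoc, comm_R R hR2 hin fb Fix hfix (hWR σ hσ) hxR, mul_assoc]
          · exact Or.inr ⟨w * τ, hcl _ _ hw hτ, mul_assoc _ _ _⟩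
          · refine Or.inl ?_
            have : permOf x * w * (permOf x * w') = w * w' := by
              rw [comm_R R hR2 hin fb Fix hfix hxR (hWR w hw), mul_assoc, ← mul_assoc (permOf x), hR2 _ hxR, one_mul]
            rw [this]
            exact hcl _ _ hw hw'
        · rw [hmem]
          rcases Nat.lt_or_ge i j with r | r
          · exact Or.inl (hmin i r hl hr)
          · obtain rfl : i = j := by omega
            exact Or.inr ⟨1, Or.inl rfl, (mul_one _).symm⟩
        · exact List.mem_filter.2 ⟨hF i hi, hfix i hi j hjl hjR⟩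

end search

/-- An elementary abelian group of listed permutations, times the words it fixes. -/
theorem elem_bound (R : Subgroup (Equiv.Perm GolayPt)) (hR2 : ∀ σ ∈ R, σ * σ = 1)
    (hin : ∀ σ ∈ R, σ ≠ 1 → ∃ j < invList.length, invPerm j = σ) (hne : R ≠ ⊥) (Fix : Finset ℕ)
    (hFix : ∀ i ∈ Fix, i < (spanList halfBasis).length ∧ ((spanList halfBasis).getD i 0).testBit 0 = false ∧
      ∀ j < invList.length, invPerm j ∈ R →
        imgMask (invList.getD j idElt) ((spanList halfBasis).getD i 0) = (spanList halfBasis).getD i 0) :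
    Nat.card R * Fix.card < 1024 := by
  classical
  have hs := search_ok
  rw [searchAll, forceNss_eq, forceNs_eq] at hs
  obtain ⟨σ, hσ, hσ1⟩ := R.bot_or_exists_ne_one.resolve_left hne
  have hex : ∃ j, j < invList.length ∧ invPerm j ∈ R ∧ invPerm j ≠ 1 := by
    obtain ⟨j, hj, rfl⟩ := hin σ hσ hσ1
    exact ⟨j, hj, hσ, hσ1⟩
  obtain ⟨hjl, hjR, hj1⟩ := Nat.find_spec hex
  set j := Nat.find hex
  have hroot := allBelow_spec _ _ hs j hjl
  rw [forceE_eq] at hroot
  have hlist : ∀ i ∈ Fix, ∀ k < invList.length, invPerm k ∈ R → i ∈ (invList.map fixWords).getD k [] := by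
    intro i hi k hk hkR
    obtain ⟨hil, hb, hf⟩ := hFix i hi
    rw [List.getD_eq_getElem _ _ (by simpa using hk), List.getElem_map, fixWords]
    rw [show i = 0 + i by omega]
    refine fixIdx_spec _ _ 0 i ?_ hil ?_ hb
    · rw [spanList_imgs, List.length_map]
    · rw [spanList_imgs, List.getD_eq_getElem _ _ (by simpa using hil), List.getElem_map,
        List.getD_eq_getElem _ _ hil]
      have := hf k hk hkR
      rwa [List.getD_eq_getElem _ _ hk, List.getD_eq_getElem _ _ hil] at this
  refine search_spec R hR2 hin _ Fix (fun i hi k hk hkR => ?_) 7 (j + 1) [invList.getD j idElt] _ hroot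
    (fun v hv => ?_) (fun a b ha hb => ?_) (fun k hk hkl hkR => ?_) fun i hi => hlist i hi j hjl hjR
  · have hl : ((invList.map fixWords).map bitsOf).getD k 0 = bitsOf ((invList.map fixWords).getD k []) := by
      rw [List.getD_eq_getElem _ _ (by simpa using hk), List.getElem_map,
        List.getD_eq_getElem _ _ (by simpa using hk)]
    rw [hl]
    exact bitsOf_spec _ _ (hlist i hi k hk hkR)
  · rw [List.mem_singleton] at hv
    subst hv
    exact ⟨valid_inv hjl, hjR⟩
  · rcases ha with rfl | ⟨v, hv, rfl⟩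
    · rwa [one_mul]
    · rcases hb with rfl | ⟨w, hw, rfl⟩
      · rw [mul_one]; exact Or.inr ⟨v, hv, rfl⟩
      · rw [List.mem_singleton] at hv hw
        subst hv; subst hw
        exact Or.inl (hR2 _ hjR)
  · rcases Nat.lt_or_ge k j with r | r
    · refine Or.inl ?_
      by_contra hne1
      exact Nat.find_min hex r ⟨hkl, hkR, hne1⟩
    · obtain rfl : k = j := by omega
      exact Or.inr ⟨_, List.mem_singleton_self _, rfl⟩

/-! ### The sign changes in the Sylow subgroup -/

theorem pInv_ok : allBelow (fun k =>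
    !allBelow (fun i => Nat.beq (get 5 (pAt k).1 (get 5 (pAt k).1 i)) i) 24 || Nat.beq k 0 ||
      invList.any (fun e => eqE e (pAt k))) 256 = true := by decide +kernel

theorem S0_le_N2 : S0 ≤ N2 := fun x hx => by
  obtain ⟨k, hk, c, hc⟩ := mem_S0.1 hx
  show incl2 x ∈ crossStab
  rw [hc]
  exact mono_mem _

/-- The permutation of a monomial element. -/
def permPart : ↥N2 →* Equiv.Perm GolayPt :=
  MonoidHom.mk' (fun x => ((pairOf ⟨incl2 (x : ↥Spor.Co2), x.2⟩).1 : Equiv.Perm GolayPt)) fun x y => by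
    have h : mono (pairOf ⟨incl2 ((x * y : ↥N2) : ↥Spor.Co2), (x * y).2⟩) =
        mono (pairMul (pairOf ⟨incl2 (x : ↥Spor.Co2), x.2⟩) (pairOf ⟨incl2 (y : ↥Spor.Co2), y.2⟩)) := by
      rw [mono_pairOf, ← mono_mul, mono_pairOf, mono_pairOf]
      exact map_mul incl2 _ _
    rw [mono_injective h]
    rfl

theorem permPart_mem {x : ↥N2} (hx : (x : ↥Spor.Co2) ∈ S0) : ∃ k < 256, permPart x = pPerm k := by
  obtain ⟨k, hk, c, hc⟩ := mem_S0.1 hx
  refine ⟨k, hk, ?_⟩
  have h : pairOf ⟨incl2 (x : ↥Spor.Co2), x.2⟩ = (⟨pPerm k, pPerm_M24 hk⟩, c) :=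
    mono_injective (by rw [mono_pairOf]; exact hc)
  show ((pairOf ⟨incl2 (x : ↥Spor.Co2), x.2⟩).1 : Equiv.Perm GolayPt) = pPerm k
  rw [h]

/-- The word of an element with trivial permutation. -/
theorem diag_word {x : ↥N2} (h : permPart x = 1) :
    ∃ i < (spanList halfBasis).length, ((spanList halfBasis).getD i 0).testBit 0 = false ∧
      okM ((spanList halfBasis).getD i 0, idElt) = true ∧
      (x : ↥Spor.Co2) = moEl ((spanList halfBasis).getD i 0, idElt) := by
  obtain ⟨m, hm, hok, e⟩ := exists_code (a := pairOf ⟨incl2 (x : ↥Spor.Co2), x.2⟩)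
    (mono_pairOf ⟨incl2 (x : ↥Spor.Co2), x.2⟩).symm idElt_ok.1 idElt_ok.2.1 (idElt_perm.trans h.symm) idElt_ok.2.2
  obtain ⟨i, hi, rfl⟩ := List.getElem_of_mem hm
  refine ⟨i, hi, ?_⟩
  rw [List.getD_eq_getElem _ _ hi]
  exact ⟨(okM_parts hok).2.1, hok, e⟩

theorem comm_mask {g : ↥Spor.Co2} {a : M24 × golayCode} (hga : incl2 g = mono a) {m : ℕ}
    (hm : okM (m, idElt) = true) (hc : g * moEl (m, idElt) = moEl (m, idElt) * g) {e : Elt}
    (hv : validElt 5 24 e = true) (hp : permOf e = (a.1 : Equiv.Perm GolayPt)) : imgMask e m = m := by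
  have h := congrArg incl2 hc
  rw [map_mul, map_mul, hga, incl2_moEl hm, mono_mul, mono_mul] at h
  have h2 := congrArg (fun b : M24 × golayCode => (b.2 : GolayPt → ZMod 2)) (mono_injective h)
  have h1 : (fun i => ofMask m ((a.1 : Equiv.Perm GolayPt).symm i)) = ofMask m := by
    funext i
    have hi := congrFun h2 i
    simp only [pairMul, Co1Endgame.monoP, idElt_perm, Pi.add_apply] at hi
    change (a.2 : GolayPt → ZMod 2) i + ofMask m ((a.1 : Equiv.Perm GolayPt).symm i) =
      ofMask m i + (a.2 : GolayPt → ZMod 2) i at hi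
    linear_combination hi
  rw [← hp, Co1Endgame.ofMask_img hv] at h1
  exact ofMask_inj (mkMask_lt _ _) (Co1Endgame.okMo_parts (okM_parts hm).1).2 h1

theorem card_A2_le : Nat.card ↥Co2Recog.Side.A2 ≤ 1024 := by
  haveI := Co2Graph.finite_Co2
  have hw : ∀ x : ↥Co2Recog.Side.A2, ∃ m ∈ ((spanList halfBasis).filter fun m => !m.testBit 0),
      (x : ↥Spor.Co2) = moEl (m, idElt) := fun x => by
    obtain ⟨c, hc⟩ := x.2
    obtain ⟨m, hm, hok, e⟩ := exists_code (a := ((1 : M24), c)) hc idElt_ok.1 idElt_ok.2.1 idElt_perm idElt_ok.2.2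
    exact ⟨m, List.mem_filter.2 ⟨hm, by rw [(okM_parts hok).2.1]; rfl⟩, e⟩
  choose f hf he using hw
  let g : ↥Co2Recog.Side.A2 → {m // m ∈ ((spanList halfBasis).filter fun m => !m.testBit 0).toFinset} :=
    fun x => ⟨f x, List.mem_toFinset.2 (hf x)⟩
  have hg : Function.Injective g := fun x y h => Subtype.ext (by
    rw [he x, he y, show f x = f y from congrArg Subtype.val h])
  refine (Nat.card_le_card_of_injective g hg).trans ?_
  rw [Nat.card_eq_fintype_card, Fintype.card_coe]
  exact (List.toFinset_card_le _).trans inv_ok.2.2.le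

/-- **Uniqueness**: the only elementary abelian subgroup of order 1024 of the Sylow subgroup. -/
theorem elem_unique {R : Subgroup ↥Spor.Co2} (hle : R ≤ S0) (hcard : Nat.card R = 1024)
    (h2 : ∀ x ∈ R, x * x = 1) : R = Co2Recog.Side.A2 := by
  classical
  haveI := Co2Graph.finite_Co2
  let f : ↥R →* Equiv.Perm GolayPt := permPart.comp (Subgroup.inclusion (hle.trans S0_le_N2))
  have hfk : ∀ x : ↥R, f x = 1 → ∃ i < (spanList halfBasis).length,
      ((spanList halfBasis).getD i 0).testBit 0 = false ∧ okM ((spanList halfBasis).getD i 0, idElt) = true ∧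
      (x : ↥Spor.Co2) = moEl ((spanList halfBasis).getD i 0, idElt) := fun x hx => diag_word hx
  by_cases hbot : f.range = ⊥
  · refine Subgroup.eq_of_le_of_card_ge (fun x hx => ?_) (by rw [hcard]; exact card_A2_le)
    have h : f ⟨x, hx⟩ = 1 := by
      have : f ⟨x, hx⟩ ∈ f.range := ⟨_, rfl⟩
      rwa [hbot, Subgroup.mem_bot] at this
    refine ⟨(pairOf ⟨incl2 x, (hle.trans S0_le_N2) hx⟩).2, ?_⟩
    refine (mono_pairOf ⟨incl2 x, (hle.trans S0_le_N2) hx⟩).symm.trans ?_
    show mono (pairOf ⟨incl2 x, _⟩) = mono ((1 : M24), (pairOf ⟨incl2 x, _⟩).2)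
    exact congrArg mono (Prod.ext (Subtype.ext h) rfl)
  · exfalso
    have hinR : ∀ σ ∈ f.range, σ ≠ 1 → ∃ j < invList.length, invPerm j = σ := by
      rintro σ ⟨x, rfl⟩ hne
      obtain ⟨k, hk, e⟩ := permPart_mem (x := Subgroup.inclusion (hle.trans S0_le_N2) x) (hle x.2)
      have he : f x = pPerm k := e
      have hsq : pPerm k * pPerm k = 1 := by
        rw [← he, ← map_mul, show x * x = 1 from Subtype.ext (h2 _ x.2), map_one]
      have hchk := allBelow_spec _ _ pInv_ok k hk
      have hinv : allBelow (fun i => Nat.beq (get 5 (pAt k).1 (get 5 (pAt k).1 i)) i) 24 = true := by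
        refine Co1Endgame.allBelow_of 24 fun i hi => ?_
        rw [Nat.beq_eq]
        have := congrArg (fun τ : Equiv.Perm GolayPt => idx (τ (pt ⟨i, hi⟩))) hsq
        simpa only [pPerm, Co1Endgame.idx_mul (pAt_parts hk).1 (pAt_parts hk).1, Equiv.Perm.one_apply,
          idx_pt] using this
      rw [hinv, Bool.not_true, Bool.false_or, Bool.or_eq_true, Nat.beq_eq, List.any_eq_true] at hchk
      rcases hchk with rfl | ⟨y, hy, hye⟩
      · exact absurd (he.trans pPerm_zero) hne
      · obtain ⟨j, hj, rfl⟩ := List.getElem_of_mem hy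
        refine ⟨j, hj, ?_⟩
        rw [he, invPerm, List.getD_eq_getElem _ _ hj, eqE_iff.1 hye]
        rfl
    have hR2 : ∀ σ ∈ f.range, σ * σ = 1 := by
      rintro σ ⟨x, rfl⟩
      rw [← map_mul, show x * x = 1 from Subtype.ext (h2 _ x.2), map_one]
    choose g hg hg0 hgok hge using fun x : ↥f.ker => hfk x.1 x.2
    let Fix : Finset ℕ := (Finset.range (spanList halfBasis).length).filter fun i =>
      ((spanList halfBasis).getD i 0).testBit 0 = false ∧ ∀ j < invList.length, invPerm j ∈ f.range →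
        imgMask (invList.getD j idElt) ((spanList halfBasis).getD i 0) = (spanList halfBasis).getD i 0
    have hgF : ∀ x, g x ∈ Fix := fun x => by
      refine Finset.mem_filter.2 ⟨Finset.mem_range.2 (hg x), hg0 x, fun j hj hjR => ?_⟩
      obtain ⟨y, hy⟩ := hjR
      refine comm_mask (g := (y : ↥Spor.Co2)) (mono_pairOf ⟨incl2 (y : ↥Spor.Co2), (hle.trans S0_le_N2) y.2⟩).symm
        (hgok x) ?_ (valid_inv hj) hy.symm
      rw [← hge x]
      calc (y : ↥Spor.Co2) * (x : ↥R) = ((y : ↥Spor.Co2) * (x : ↥R))⁻¹ :=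
            (inv_eq_of_mul_eq_one_right (h2 _ (mul_mem y.2 x.1.2))).symm
        _ = _ := by rw [mul_inv_rev, inv_eq_of_mul_eq_one_right (h2 _ x.1.2), inv_eq_of_mul_eq_one_right (h2 _ y.2)]
    have hker : Nat.card f.ker ≤ Fix.card := by
      let u : ↥f.ker → {i // i ∈ Fix} := fun x => ⟨g x, hgF x⟩
      have hu : Function.Injective u := fun x y h => Subtype.ext (Subtype.ext (by
        rw [hge x, hge y, show g x = g y from congrArg Subtype.val h]))
      refine (Nat.card_le_card_of_injective u hu).trans (le_of_eq ?_)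
      rw [Nat.card_eq_fintype_card, Fintype.card_coe]
    have hb := elem_bound f.range hR2 hinR hbot Fix fun i hi => by
      obtain ⟨h1, h3, h4⟩ := Finset.mem_filter.1 hi
      exact ⟨Finset.mem_range.1 h1, h3, h4⟩
    have hprod : Nat.card f.ker * Nat.card f.range = 1024 := by
      rw [← Subgroup.index_ker, Subgroup.card_mul_index, hcard]
    have := Nat.mul_le_mul_left (Nat.card f.range) hker
    rw [Nat.mul_comm] at hprod
    omega

/-! ### Fusion -/

/-- An elementary abelian subgroup of order 1024. -/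
def Elem1024 {K : Type*} [Group K] (H : Subgroup K) : Prop := Nat.card H = 1024 ∧ ∀ x ∈ H, x * x = 1

theorem elem_map {K L : Type*} [Group K] [Group L] {H : Subgroup K} (h : Elem1024 H) (f : K →* L)
    (hf : Function.Injective f) : Elem1024 (H.map f) := by
  refine ⟨(Nat.card_congr (H.equivMapOfInjective f hf).toEquiv).symm.trans h.1, ?_⟩
  rintro _ ⟨x, hx, rfl⟩
  rw [← map_mul, h.2 x hx, map_one]

theorem A2_elem : Elem1024 Co2Recog.Side.A2 := by
  refine ⟨le_antisymm card_A2_le Co2Recog.Side.card_A2, fun x ⟨c, hc⟩ => ?_⟩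
  refine incl2_inj ?_
  rw [map_mul, map_one, hc, ← Leech.diag_add,
    show c + c = 0 from Subtype.ext (funext fun _ => CharTwo.add_self_eq_zero _), Leech.diag_zero]

variable {G : Type*} [Group G] [Finite G] (phi : ↥Spor.Co2 →* G) (inj : Function.Injective phi)
  (hN : ∀ g ∈ Subgroup.normalizer (Co2Recog.Side.A2.map phi : Set G), g ∈ phi.range)

include inj in
/-- The image of the sign changes is the only such subgroup of the image of the Sylow subgroup. -/
theorem elem_unique_image {H : Subgroup G} (hle : H ≤ S0.map phi) (h : Elem1024 H) :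
    H = Co2Recog.Side.A2.map phi := by
  have e : (H.comap phi).map phi = H :=
    Subgroup.map_comap_eq_self (hle.trans (Subgroup.map_le_range phi S0))
  have hc : Nat.card (H.comap phi) = 1024 := by
    rw [Nat.card_congr ((H.comap phi).equivMapOfInjective phi inj).toEquiv, e, h.1]
  have hle' : H.comap phi ≤ S0 := fun x hx => by
    obtain ⟨y, hy, hyx⟩ := hle hx
    exact inj hyx ▸ hy
  rw [← e, elem_unique hle' hc fun x hx => inj (by rw [map_mul, map_one, h.2 _ hx])]

theorem mem_normalizer_of_map {g : G} {H : Subgroup G} (h : H.map (MulAut.conj g).toMonoidHom = H) :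
    g ∈ Subgroup.normalizer (H : Set G) :=
  Subgroup.mem_normalizer_iff.2 fun a => by
    constructor
    · intro ha
      rw [← h]
      exact ⟨a, ha, rfl⟩
    · intro ha
      rw [← h] at ha
      obtain ⟨b, hb, e⟩ := ha
      exact (MulAut.conj g).injective e ▸ hb

include inj hN in
/-- The image of the Sylow subgroup is a Sylow subgroup of the group. -/
theorem image_sylow : ∃ P : Sylow 2 G, (P : Subgroup G) = S0.map phi := by
  haveI := Co2Graph.finite_Co2
  haveI : Fact (Nat.Prime 2) := ⟨Nat.prime_two⟩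
  obtain ⟨P, hP⟩ := IsPGroup.exists_le_sylow (S0_isPGroup.map phi)
  refine ⟨P, (hP.antisymm ?_).symm⟩
  by_contra hne
  haveI : Group.IsNilpotent ↥(P : Subgroup G) := P.2.isNilpotent
  have hlt : (S0.map phi).subgroupOf (P : Subgroup G) < ⊤ :=
    lt_top_iff_ne_top.2 fun e => hne (Subgroup.subgroupOf_eq_top.1 e)
  obtain ⟨s, hs1, hs2⟩ := SetLike.exists_of_lt (normalizerCondition_of_isNilpotent _ hlt)
  have hnorm : ∀ a ∈ S0.map phi, (s : G) * a * (s : G)⁻¹ ∈ S0.map phi := fun a ha =>
    (Subgroup.mem_normalizer_iff.1 hs1 ⟨a, hP ha⟩).1 ha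
  have hA : (Co2Recog.Side.A2.map phi).map (MulAut.conj (s : G)).toMonoidHom = Co2Recog.Side.A2.map phi := by
    refine elem_unique_image phi inj ?_ (elem_map (elem_map A2_elem phi inj) (MulAut.conj (s : G)).toMonoidHom (MulAut.conj (s : G)).injective)
    rintro _ ⟨a, ha, rfl⟩
    exact hnorm a (Subgroup.map_mono A2_le_S0 ha)
  obtain ⟨n, hn⟩ := hN _ (mem_normalizer_of_map hA)
  have hp : IsPGroup 2 ↥((P : Subgroup G).comap phi) := P.2.comap_of_injective phi inj
  have hle : S0 ≤ (P : Subgroup G).comap phi := fun x hx => hP ⟨x, hx, rfl⟩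
  have hno : (P : Subgroup G).comap phi ≤ S0 := (sylow0.3 hp hle).le
  exact hs2 ⟨n, hno (by show phi n ∈ (P : Subgroup G); rw [hn]; exact s.2), hn⟩

include inj hN in
/-- **Fusion of the sign changes.** -/
theorem fusion {a b : ↥Spor.Co2} (ha : a ∈ Co2Recog.Side.A2) (hb : b ∈ Co2Recog.Side.A2)
    (h : IsConj (phi a) (phi b)) : IsConj a b := by
  haveI : Fact (Nat.Prime 2) := ⟨Nat.prime_two⟩
  obtain ⟨S, hS⟩ := image_sylow phi inj hN
  set A := Co2Recog.Side.A2.map phi with hA
  obtain ⟨g, hg⟩ := isConj_iff.1 h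
  have hAe : Elem1024 A := elem_map A2_elem phi inj
  set C := Subgroup.centralizer ({phi b} : Set G)
  have hAc : ∀ x ∈ A, ∀ y ∈ A, x * y = y * x := by
    rintro _ ⟨x, hx, rfl⟩ _ ⟨y, hy, rfl⟩
    rw [← map_mul, ← map_mul, Co2Recog.Side.A2_comm hx hy]
  have h1 : A ≤ C := fun x hx => Subgroup.mem_centralizer_singleton_iff.2 (hAc x hx _ ⟨b, hb, rfl⟩)
  have h2 : A.map (MulAut.conj g).toMonoidHom ≤ C := by
    rintro _ ⟨x, hx, rfl⟩
    refine Subgroup.mem_centralizer_singleton_iff.2 ?_
    show g * x * g⁻¹ * phi b = phi b * (g * x * g⁻¹)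
    rw [← hg]
    calc g * x * g⁻¹ * (g * phi a * g⁻¹) = g * (x * phi a) * g⁻¹ := by group
      _ = g * (phi a * x) * g⁻¹ := by rw [hAc x hx _ ⟨a, ha, rfl⟩]
      _ = _ := by group
  have pA : ∀ H : Subgroup G, Elem1024 H → IsPGroup 2 ↥H := fun H hH =>
    IsPGroup.of_card (n := 10) (by rw [hH.1]; norm_num)
  have hAg := elem_map hAe (MulAut.conj g).toMonoidHom (MulAut.conj g).injective
  obtain ⟨Q1, hQ1⟩ := IsPGroup.exists_le_sylow
    ((pA A hAe).of_equiv (Subgroup.subgroupOfEquivOfLe h1).symm)
  obtain ⟨Q2, hQ2⟩ := IsPGroup.exists_le_sylow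
    ((pA _ hAg).of_equiv (Subgroup.subgroupOfEquivOfLe h2).symm)
  obtain ⟨k, hk⟩ := MulAction.exists_smul_eq C Q2 Q1
  obtain ⟨P, hP⟩ := IsPGroup.exists_le_sylow (Q1.2.map C.subtype)
  obtain ⟨c, hc⟩ := MulAction.exists_smul_eq G P S
  have inS : ∀ H : Subgroup G, Elem1024 H → H ≤ (P : Subgroup G) →
      H.map (MulAut.conj c).toMonoidHom = A := fun H hH hHP => by
    refine elem_unique_image phi inj ?_ (elem_map hH (MulAut.conj c).toMonoidHom (MulAut.conj c).injective)
    rw [← hS, ← hc, Sylow.coe_subgroup_smul, Subgroup.pointwise_smul_def]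
    rintro _ ⟨x, hx, rfl⟩
    exact ⟨x, hHP hx, rfl⟩
  have e1 := inS A hAe fun x hx => hP ⟨⟨x, h1 hx⟩, hQ1 hx, rfl⟩
  have hkg : Elem1024 (A.map (MulAut.conj ((k : G) * g)).toMonoidHom) :=
    elem_map hAe (MulAut.conj ((k : G) * g)).toMonoidHom (MulAut.conj ((k : G) * g)).injective
  have e2 := inS _ hkg (by
    rintro _ ⟨x, hx, rfl⟩
    refine hP ⟨k * ⟨g * x * g⁻¹, h2 ⟨x, hx, rfl⟩⟩ * k⁻¹, ?_, ?_⟩
    · rw [← hk, Sylow.coe_subgroup_smul, Subgroup.pointwise_smul_def]
      exact ⟨⟨g * x * g⁻¹, h2 ⟨x, hx, rfl⟩⟩, hQ2 ⟨x, hx, rfl⟩, rfl⟩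
    · show (k : G) * (g * x * g⁻¹) * (k : G)⁻¹ = (k : G) * g * x * ((k : G) * g)⁻¹
      group)
  have e3 : A.map (MulAut.conj ((k : G) * g)).toMonoidHom = A :=
    Subgroup.map_injective (f := (MulAut.conj c).toMonoidHom) (MulAut.conj c).injective (e2.trans e1.symm)
  obtain ⟨n, hn⟩ := hN _ (mem_normalizer_of_map e3)
  refine isConj_iff.2 ⟨n, inj ?_⟩
  rw [map_mul, map_mul, map_inv, hn]
  calc (k : G) * g * phi a * ((k : G) * g)⁻¹ = (k : G) * (g * phi a * g⁻¹) * (k : G)⁻¹ := by group
    _ = phi b := by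
      rw [hg, Subgroup.mem_centralizer_singleton_iff.1 k.2, mul_inv_cancel_right]

end Cfsg.Agent.Co2Close
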