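import Cfsg.Agent.Lib.RigidGraph.Co2.Chain
import Cfsg.Agent.Lib.RigidGraph.Co2.Nodes.All
import Cfsg.Agent.Lib.RigidGraph.Co2.Graphs
import Cfsg.Agent.Lib.Co2Recog.Close.OrbitData

/-! Kernel checks: the second orbit of the stabiliser of a point, and its separation from the first. -/

set_option autoImplicit false
set_option maxRecDepth 100000
set_option Elab.async false

namespace Cfsg.Agent.RigidGraph.Co2

theorem orbit891_ok : lowsOK 2300 nodes [0] [⟨base891, 891, gens891, tree891⟩] = true := by decide +kernel

theorem adj891_ok : (bit (graph.B.get 0) base891 && !bit (graph.B.get 0) 556 && Nat.blt base891 2300 &&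
    !Nat.beq base891 0) = true := by
  decide +kernel

end Cfsg.Agent.RigidGraph.Co2
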