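import Cfsg.Agent.Lib.RigidGraph.Co2.Group
import Cfsg.Agent.Lib.Co2Recog.Close.OrbitChecks
import Mathlib.GroupTheory.Coset.Basic

/-!
The stabiliser of one of the 2300 pairs is a maximal subgroup of rank three.
-/

set_option autoImplicit false
set_option maxRecDepth 100000

namespace Cfsg.Agent.Co2Close

open Cfsg Cfsg.Agent.RigidGraph Cfsg.Agent.RigidGraph.Co2

attribute [local irreducible] nodes prog levels graph rowsB tree891 gens891 base891 permOf co2Group

/-- The base point. -/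
abbrev p0 : Fin 2300 := ⟨0, by norm_num⟩

/-- The point with which the level of length 1408 starts. -/
abbrev p1 : Fin 2300 := ⟨556, by norm_num⟩

theorem base891_lt : base891 < 2300 := by
  have h := adj891_ok
  simp only [Bool.and_eq_true, Nat.blt_eq] at h
  exact h.1.2

/-- The point with which the orbit of length 891 starts. -/
noncomputable abbrev p2 : Fin 2300 := ⟨base891, base891_lt⟩

/-- The stabiliser. -/
noncomputable abbrev St0 : Subgroup ↥co2Group := MulAction.stabilizer ↥co2Group p0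

theorem level_orbit {L : LowLevel} (ht : L.t < 2300) (h : lowsOK 2300 nodes [0] [L] = true) :
    L.k ≤ (MulAction.orbit ↥St0 (⟨L.t, ht⟩ : Fin 2300)).ncard := by
  simp only [lowsOK, Bool.and_eq_true, Nat.blt_eq] at h
  obtain ⟨⟨⟨-, hgens⟩, horb⟩, -⟩ := h
  have hgs : ∀ e ∈ L.gens.map (getN nodes), permOK 2300 e = true ∧
      permOf 2300 e ∈ co2Group ⊓ MulAction.stabilizer (Equiv.Perm (Fin 2300)) p0 := by
    intro e he
    obtain ⟨g, hg, rfl⟩ := List.mem_map.1 he
    have := List.all_eq_true.1 hgens g hg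
    simp only [Bool.and_eq_true, List.all_cons, List.all_nil, Nat.blt_eq, Nat.beq_eq] at this
    refine ⟨getN_ok slp_ok this.1, ?_, Fin.ext ((permOf_val (getN_ok slp_ok this.1) p0).trans this.2.1)⟩
    rw [co2Group]; exact getN_mem slp_ok this.1
  refine (orbitOK_le _ hgs ht horb).trans (Set.ncard_le_ncard ?_)
  rintro _ ⟨g, rfl⟩
  exact ⟨⟨⟨g.1, g.2.1⟩, g.2.2⟩, rfl⟩

theorem level_1408 : ∃ L : LowLevel, L.t = 556 ∧ L.k = 1408 ∧ lowsOK 2300 nodes [0] [L] = true := by
  have e : ∃ L0 L Ls, levels = L0 :: L :: Ls ∧ L0.t = 0 ∧ L.t = 556 ∧ L.k = 1408 := by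
    unfold levels; exact ⟨_, _, _, rfl, rfl, rfl, rfl⟩
  obtain ⟨L0, L, Ls, e, h0, h1, h2⟩ := e
  refine ⟨L, h1, h2, ?_⟩
  have h := lows_ok
  rw [e, lowsOK, lowsOK] at h
  simp only [Bool.and_eq_true, List.nil_append, h0] at h
  rw [lowsOK, lowsOK, Bool.and_true]
  simp only [Bool.and_eq_true]
  exact h.2.1

theorem orbit_bounds : 1408 ≤ (MulAction.orbit ↥St0 p1).ncard ∧ 891 ≤ (MulAction.orbit ↥St0 p2).ncard := by
  obtain ⟨L, ht, hk, h⟩ := level_1408
  refine ⟨?_, level_orbit (L := ⟨base891, 891, gens891, tree891⟩) base891_lt orbit891_ok⟩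
  have := level_orbit (L := L) (by omega) h
  rw [hk] at this
  simpa only [ht] using this

theorem adj_iff {g : ↥St0} (x : Fin 2300) : Adj graph 0 (g • x : Fin 2300) ↔ Adj graph 0 x := by
  have h := mem_autG.1 (co2Group_le g.1.2) p0 x
  rw [show ((g.1 : ↥co2Group) : Equiv.Perm (Fin 2300)) p0 = p0 from MulAction.mem_stabilizer_iff.1 g.2] at h
  exact h

theorem adj_orbit {x y : Fin 2300} (h : y ∈ MulAction.orbit ↥St0 x) : Adj graph 0 y ↔ Adj graph 0 x := by
  obtain ⟨g, rfl⟩ := h
  exact adj_iff x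

/-- **The three orbits.** -/
theorem orbits : (MulAction.orbit ↥St0 p1).ncard = 1408 ∧ (MulAction.orbit ↥St0 p2).ncard = 891 ∧
    ∀ x : Fin 2300, x = p0 ∨ x ∈ MulAction.orbit ↥St0 p1 ∨ x ∈ MulAction.orbit ↥St0 p2 := by
  classical
  have ha := adj891_ok
  simp only [Bool.and_eq_true, Bool.not_eq_true', ← Bool.not_eq_true] at ha
  obtain ⟨⟨⟨a2, a1⟩, -⟩, a0⟩ := ha
  have hne : ∀ p : Fin 2300, p ≠ p0 → p0 ∉ MulAction.orbit ↥St0 p := fun p hp ⟨g, hg⟩ => hp (by
    have h : g • p = p0 := hg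
    rw [← eq_inv_smul_iff] at h
    rw [h]
    exact MulAction.mem_stabilizer_iff.1 (g⁻¹).2)
  have h01 := hne p1 (by decide)
  have h02 := hne p2 fun e => a0 (by rw [Nat.beq_eq]; exact congrArg Fin.val e)
  have hd : Disjoint (MulAction.orbit ↥St0 p1) (MulAction.orbit ↥St0 p2) := Set.disjoint_left.2 fun x h1 h2 =>
    a1 ((adj_orbit h1).1 ((adj_orbit h2).2 a2))
  obtain ⟨b1, b2⟩ := orbit_bounds
  have hsub : ({p0} ∪ (MulAction.orbit ↥St0 p1 ∪ MulAction.orbit ↥St0 p2) : Set (Fin 2300)) ⊆ Set.univ :=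
    Set.subset_univ _
  have hc := Set.ncard_le_ncard hsub
  rw [Set.ncard_univ, Nat.card_fin, Set.ncard_union_eq (Set.disjoint_singleton_left.2 fun h => h.elim h01 h02), Set.ncard_union_eq hd,
    Set.ncard_singleton] at hc
  refine ⟨by omega, by omega, fun x => ?_⟩
  have hu := Set.eq_of_subset_of_ncard_le hsub (by
    rw [Set.ncard_univ, Nat.card_fin, Set.ncard_union_eq (Set.disjoint_singleton_left.2 fun h => h.elim h01 h02), Set.ncard_union_eq hd,
      Set.ncard_singleton]
    omega)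
  have hx := hu ▸ Set.mem_univ x
  simpa only [Set.mem_union, Set.mem_singleton_iff] using hx

theorem St0_index : St0.index = 2300 := by
  rw [MulAction.index_stabilizer, MulAction.orbit_eq_univ, Set.ncard_univ, Nat.card_fin]

/-- **A maximal subgroup of rank three.** -/
theorem co2Group_rank3 : IsCoatom St0 ∧ St0.index = 2300 ∧ ∃ q₁ q₂ : ↥co2Group ⧸ St0,
    (MulAction.orbit ↥St0 q₁).ncard = 891 ∧ (MulAction.orbit ↥St0 q₂).ncard = 1408 := by
  classical
  obtain ⟨c1, c2, hall⟩ := orbits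
  refine ⟨⟨fun e => ?_, fun K hK => ?_⟩, St0_index, ?_⟩
  · have := St0_index
    rw [e, Subgroup.index_top] at this
    omega
  · by_contra hne
    -- the orbit of the base point under the larger group is a union of suborbits
    have hr : (MulAction.orbit ↥K p0).ncard * K.index = 2300 := by
      refine Eq.trans ?_ ((Subgroup.relIndex_mul_index hK.le).trans St0_index)
      congr 1
      rw [Subgroup.relIndex, ← MulAction.index_stabilizer]
      congr 1
    have hK1 : 2 ≤ K.index := by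
      rcases Nat.lt_or_ge K.index 2 with h | h
      · rcases (show K.index = 0 ∨ K.index = 1 by omega) with h | h
        · rw [h, mul_zero] at hr; omega
        · exact absurd (Subgroup.index_eq_one.1 h) hne
      · exact h
    have hinv : ∀ {x : Fin 2300}, x ∈ MulAction.orbit ↥K p0 → MulAction.orbit ↥St0 x ⊆ MulAction.orbit ↥K p0 := by
      rintro x ⟨k, rfl⟩ _ ⟨g, rfl⟩
      exact ⟨⟨(g : ↥co2Group) * k, mul_mem (hK.le g.2) k.2⟩, mul_smul (g : ↥co2Group) (k : ↥co2Group) p0⟩
    obtain ⟨k, hk, hkn⟩ := SetLike.exists_of_lt hK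
    have hkp : (k • p0 : Fin 2300) ≠ p0 := fun e => hkn (MulAction.mem_stabilizer_iff.2 e)
    have hmem : (k • p0 : Fin 2300) ∈ MulAction.orbit ↥K p0 := ⟨⟨k, hk⟩, rfl⟩
    have hsz : 892 ≤ (MulAction.orbit ↥K p0).ncard := by
      have key : ∀ p : Fin 2300, k • p0 ∈ MulAction.orbit ↥St0 p → p0 ∉ MulAction.orbit ↥St0 p →
          (MulAction.orbit ↥St0 p).ncard + 1 ≤ (MulAction.orbit ↥K p0).ncard := fun p hp h0 => by
        rw [← Set.ncard_singleton p0, ← Set.ncard_union_eq (Set.disjoint_singleton_right.2 h0)]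
        refine Set.ncard_le_ncard (Set.union_subset ?_ (Set.singleton_subset_iff.2 (MulAction.mem_orbit_self _)))
        rw [← MulAction.orbit_eq_iff.2 hp]
        exact hinv hmem
      have hne' : ∀ p : Fin 2300, k • p0 ∈ MulAction.orbit ↥St0 p → p0 ∉ MulAction.orbit ↥St0 p := by
        intro p hp h0
        have e : MulAction.orbit ↥St0 p = MulAction.orbit ↥St0 p0 := (MulAction.orbit_eq_iff.2 h0).symm
        rw [e] at hp
        obtain ⟨g, hg⟩ := hp
        exact hkp (hg.symm.trans (MulAction.mem_stabilizer_iff.1 g.2))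
      rcases hall (k • p0) with h | h | h
      · exact absurd h hkp
      · have := key p1 h (hne' _ h); omega
      · have := key p2 h (hne' _ h); omega
    rcases Nat.lt_or_ge K.index 3 with h | h
    · -- index two: the orbit would have 1150 points
      rw [show K.index = 2 by omega] at hr
      have hlt : (MulAction.orbit ↥K p0).ncard < 1409 := by omega
      have hcase : ∀ x, x ∈ MulAction.orbit ↥K p0 → x = p0 ∨ x ∈ MulAction.orbit ↥St0 p2 := by
        intro x hx
        rcases hall x with h' | h' | h'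
        · exact Or.inl h'
        · exfalso
          have := Set.ncard_le_ncard ((MulAction.orbit_eq_iff.2 h') ▸ hinv hx)
          omega
        · exact Or.inr h'
      have := Set.ncard_le_ncard (t := insert p0 (MulAction.orbit ↥St0 p2)) fun x hx => hcase x hx
      have := Set.ncard_insert_le p0 (MulAction.orbit ↥St0 p2)
      omega
    · nlinarith
  · have key : ∀ p : Fin 2300, ∃ q : ↥co2Group ⧸ St0,
        (MulAction.orbit ↥St0 q).ncard = (MulAction.orbit ↥St0 p).ncard := by
      intro p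
      let e := MulAction.orbitEquivQuotientStabilizer ↥co2Group p0
      obtain ⟨g, hg⟩ := MulAction.exists_smul_eq ↥co2Group p0 p
      refine ⟨(g : ↥co2Group ⧸ St0), ?_⟩
      let ι : ↥co2Group ⧸ St0 → Fin 2300 := fun q => (e.symm q : Fin 2300)
      have hι : Function.Injective ι := Subtype.val_injective.comp e.symm.injective
      have hval : ∀ a : ↥co2Group, ι (a : ↥co2Group ⧸ St0) = a • p0 := fun a =>
        MulAction.orbitEquivQuotientStabilizer_symm_apply ↥co2Group p0 a
      rw [← Set.ncard_image_of_injective _ hι]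
      congr 1
      ext y
      constructor
      · rintro ⟨_, ⟨s, rfl⟩, rfl⟩
        refine ⟨s, ?_⟩
        show (s : ↥co2Group) • p = ι (((s : ↥co2Group) * g : ↥co2Group) : ↥co2Group ⧸ St0)
        rw [hval, mul_smul, hg]
      · rintro ⟨s, rfl⟩
        refine ⟨_, ⟨s, rfl⟩, ?_⟩
        show ι (((s : ↥co2Group) * g : ↥co2Group) : ↥co2Group ⧸ St0) = (s : ↥co2Group) • p
        rw [hval, mul_smul, hg]
    obtain ⟨q₁, h₁⟩ := key p2
    obtain ⟨q₂, h₂⟩ := key p1
    exact ⟨q₁, q₂, h₁.trans c2, h₂.trans c1⟩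

/-- **The rank three maximal subgroup of Co₂.** -/
theorem maximal_of_iso {G : Type*} [Group G] (h : Cfsg.Spor.IsoCo2 G) :
    ∃ H : Subgroup G, IsCoatom H ∧ H.index = 2300 ∧
      ∃ q₁ q₂ : G ⧸ H, (MulAction.orbit H q₁).ncard = 891 ∧ (MulAction.orbit H q₂).ncard = 1408 := by
  obtain ⟨e1⟩ := h
  obtain ⟨-, ⟨e2⟩⟩ := RigidGraph.Co2.co2_model
  let e : ↥co2Group ≃* G := (e1.trans e2).symm
  obtain ⟨hco, hidx, q₁, q₂, h₁, h₂⟩ := co2Group_rank3
  refine ⟨St0.map e.toMonoidHom, ?_, ?_, ?_⟩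
  · exact (OrderIso.isCoatom_iff e.mapSubgroup St0).2 hco
  · exact (Subgroup.index_map_equiv St0 e).trans hidx
  · let F : ↥co2Group ⧸ St0 → G ⧸ St0.map e.toMonoidHom :=
      Quotient.map' e fun a b hab => by
        rw [QuotientGroup.leftRel_apply] at hab ⊢
        exact ⟨_, hab, by simp⟩
    have hF : ∀ a : ↥co2Group, F a = (e a : G ⧸ St0.map e.toMonoidHom) := fun a => rfl
    have hinj : Function.Injective F := by
      intro x y
      obtain ⟨a, rfl⟩ := QuotientGroup.mk_surjective x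
      obtain ⟨b, rfl⟩ := QuotientGroup.mk_surjective y
      rw [hF, hF, QuotientGroup.eq, QuotientGroup.eq]
      rintro ⟨c, hc, he⟩
      have : c = a⁻¹ * b := e.injective (by rw [map_mul, map_inv]; exact he)
      exact this ▸ hc
    have horb : ∀ q, (MulAction.orbit ↥(St0.map e.toMonoidHom) (F q)).ncard = (MulAction.orbit ↥St0 q).ncard := by
      intro q
      rw [← Set.ncard_image_of_injective (MulAction.orbit ↥St0 q) hinj]
      congr 1
      obtain ⟨a, rfl⟩ := QuotientGroup.mk_surjective q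
      ext y
      constructor
      · rintro ⟨⟨_, s, hs, rfl⟩, rfl⟩
        refine ⟨_, ⟨⟨s, hs⟩, rfl⟩, ?_⟩
        show F ((s * a : ↥co2Group) : ↥co2Group ⧸ St0) = ((e s * e a : G) : G ⧸ St0.map e.toMonoidHom)
        rw [hF, map_mul]
      · rintro ⟨_, ⟨s, rfl⟩, rfl⟩
        refine ⟨⟨e s, _, s.2, rfl⟩, ?_⟩
        show ((e s * e a : G) : G ⧸ St0.map e.toMonoidHom) =
          F (((s : ↥co2Group) * a : ↥co2Group) : ↥co2Group ⧸ St0)
        rw [hF, map_mul]
    exact ⟨F q₁, F q₂, by rw [horb, h₁], by rw [horb, h₂]⟩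

end Cfsg.Agent.Co2Close
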