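import Cfsg.Agent.Lib.Co2Recog.Side.ModelBasic
import Cfsg.Agent.Lib.Co2Recog.Close.Defs
import Cfsg.Agent.Lib.Co1Recog.Endgame.Cand

/-!
Coded monomial elements of the second Conway group, through the injection into Co₁, and their traces.
-/

set_option autoImplicit false
set_option maxRecDepth 20000

noncomputable section

namespace Cfsg.Agent.Co2Close

open Cfsg Cfsg.Agent.Golay Cfsg.Agent.Leech Cfsg.Agent.PermCert Finset
open Cfsg.Agent.E8Cent (piH piH_eq)
open Cfsg.Agent.Co2Recog.Layers (incl2 liftU incl2_lift incl2_fix)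
open Cfsg.Agent.Co1Endgame (Mo idElt okMo pMask fixMask commB prodEqB monoP trA pairMul_monoP okMo_parts idx_mul
  samePP idElt_perm)
open scoped Pointwise

theorem incl2_inj : Function.Injective incl2 := Co2Recog.Side.incl2_injective

/-- The map to Co₁. -/
def toCo1 : ↥Spor.Co2 →* Spor.Co1 := piH.comp incl2

theorem negCo0_not_fix : ¬ negCo0 • Spor.leechU = Spor.leechU := fun h => by
  have := congrFun (congrArg Subtype.val h) none
  rw [negCo0_smul, AddSubgroup.coe_neg, Pi.neg_apply] at this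
  exact absurd this (show ¬ (-(Spor.vecU none) = Spor.vecU none) by decide +kernel)

theorem toCo1_inj : Function.Injective toCo1 := fun x y h => by
  rcases piH_eq.1 (show piH (incl2 x) = piH (incl2 y) from h) with e | e
  · exact (incl2_inj e.symm)
  · exfalso
    refine negCo0_not_fix ?_
    have hx := incl2_fix x
    have hy := incl2_fix y
    rw [e, mul_smul] at hy
    exact MulAction.injective (incl2 x) (hy.trans hx.symm)

theorem pairB_spec {e : Elt} (hv : validElt 5 24 e = true) (h : pairB e = true) :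
    permOf e • Co2Graph.pairSet = Co2Graph.pairSet := by
  have hi : idx (none : GolayPt) = 23 ∧ idx (some 0 : GolayPt) = 0 := by decide
  simp only [pairB, Bool.and_eq_true, Bool.or_eq_true, Nat.beq_eq] at h
  rw [Co2Graph.pairSet, Finset.smul_finset_insert, Finset.smul_finset_singleton]
  rcases h with ⟨a, b⟩ | ⟨a, b⟩
  · rw [show permOf e • (none : GolayPt) = none from idx_injective (by
        rw [Equiv.Perm.smul_def, idx_permOf hv, hi.1, b]),
      show permOf e • (some 0 : GolayPt) = some 0 from idx_injective (by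
        rw [Equiv.Perm.smul_def, idx_permOf hv, hi.2, a])]
  · rw [show permOf e • (none : GolayPt) = some 0 from idx_injective (by
        rw [Equiv.Perm.smul_def, idx_permOf hv, hi.1, b, hi.2]),
      show permOf e • (some 0 : GolayPt) = none from idx_injective (by
        rw [Equiv.Perm.smul_def, idx_permOf hv, hi.2, a, hi.1]), Finset.pair_comm]

theorem okM_parts {e : Mo} (h : okM e = true) :
    okMo e = true ∧ e.1.testBit 0 = false ∧ e.1.testBit 23 = false ∧ pairB e.2 = true := by
  simp only [okM, Bool.and_eq_true, Bool.not_eq_true'] at h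
  exact ⟨h.1.1.1, h.1.1.2, h.1.2, h.2⟩

theorem monoP_fix {e : Mo} (h : okM e = true) :
    mono (monoP e (okM_parts h).1) • Spor.leechU = Spor.leechU := by
  obtain ⟨ho, h0, h23, hp⟩ := okM_parts h
  refine Co2Graph.mono_fixU (pairB_spec (okMo_parts ho).1 hp) fun p hp => ?_
  have hidx : idx p = 0 ∨ idx p = 23 := by
    rcases Finset.mem_insert.1 hp with rfl | hp
    · exact Or.inr rfl
    · rw [Finset.mem_singleton.1 hp]; exact Or.inl (by decide)
  show ofMask e.1 p = 0
  rcases hidx with r | r <;> simp [ofMask, r, h0, h23]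

/-- The element with a code. -/
def moEl (e : Mo) : ↥Spor.Co2 :=
  if h : okM e = true then liftU (mono (monoP e (okM_parts h).1)) (monoP_fix h) else 1

theorem incl2_moEl {e : Mo} (h : okM e = true) : incl2 (moEl e) = mono (monoP e (okM_parts h).1) := by
  rw [moEl, dif_pos h, incl2_lift]

theorem toCo1_moEl {e : Mo} (h : okM e = true) : toCo1 (moEl e) = Co1Endgame.moEl e := by
  rw [Co1Endgame.moEl_eq (okM_parts h).1, ← incl2_moEl h]
  rfl

theorem oneM_ok : okM oneM = true := by decide +kernel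

theorem moEl_one : moEl oneM = 1 :=
  toCo1_inj ((toCo1_moEl oneM_ok).trans (Co1Endgame.moEl_one.trans (map_one toCo1).symm))

theorem prodEq_iff {e f g h : Mo} (he : okM e = true) (hf : okM f = true) (hg : okM g = true)
    (hh : okM h = true) : prodEqB e f g h = true ↔ moEl e * moEl f = moEl g * moEl h := by
  rw [← toCo1_inj.eq_iff, map_mul, map_mul, toCo1_moEl he, toCo1_moEl hf, toCo1_moEl hg, toCo1_moEl hh]
  exact Co1Endgame.prodEq_iff (okM_parts he).1 (okM_parts hf).1 (okM_parts hg).1 (okM_parts hh).1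

/-! ### Sign changes -/

theorem idElt_ok : validElt 5 24 idElt = true ∧ isAutB idElt = true ∧ pairB idElt = true := by decide +kernel

theorem dMo_ok {m : ℕ} (h : okD m = true) : okM (dMo m) = true := by
  simp only [okD, Bool.and_eq_true] at h
  simp only [okM, okMo, dMo, idElt_ok.1, idElt_ok.2.1, idElt_ok.2.2, h.1.1, h.1.2, h.2, Bool.and_self]

theorem imgMask_id {m : ℕ} (hm : m < 2 ^ 24) : imgMask idElt m = m := by
  refine maskSet_inj (mkMask_lt _ _) hm ?_
  rw [← maskSet_imgMask idElt_ok.1, idElt_perm]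
  exact one_smul (Equiv.Perm GolayPt) (maskSet m)

theorem okD_xor {a b : ℕ} (ha : okD a = true) (hb : okD b = true) : okD (a ^^^ b) = true := by
  simp only [okD, Bool.and_eq_true, Bool.not_eq_true'] at ha hb ⊢
  refine ⟨⟨inCode_iff.2 (spanList_xor _ _ (inCode_iff.1 ha.1.1) _ (inCode_iff.1 hb.1.1)), ?_⟩, ?_⟩
  · rw [Nat.testBit_xor, ha.1.2, hb.1.2]; rfl
  · rw [Nat.testBit_xor, ha.2, hb.2]; rfl

theorem okM_left {a : ℕ} (ha : okD a = true) {c : Mo} (hc : okM c = true) : okM (a ^^^ c.1, c.2) = true := by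
  simp only [okD, okM, okMo, Bool.and_eq_true, Bool.not_eq_true'] at ha hc ⊢
  refine ⟨⟨⟨⟨hc.1.1.1.1, inCode_iff.2 (spanList_xor _ _ (inCode_iff.1 ha.1.1) _ (inCode_iff.1 hc.1.1.1.2))⟩,
    ?_⟩, ?_⟩, hc.2⟩
  · rw [Nat.testBit_xor, ha.1.2, hc.1.1.2]; rfl
  · rw [Nat.testBit_xor, ha.2, hc.1.2]; rfl

/-- A sign change times a coded element. -/
theorem dEl_mul {a : ℕ} (ha : okD a = true) {c : Mo} (hc : okM c = true) :
    moEl (dMo a) * moEl c = moEl (a ^^^ c.1, c.2) := by
  have hd := dMo_ok ha
  refine incl2_inj ?_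
  rw [map_mul, incl2_moEl hd, incl2_moEl hc, incl2_moEl (okM_left ha hc), mono_mul]
  obtain ⟨p, q⟩ := pairMul_monoP (okM_parts hd).1 (okM_parts hc).1
  refine congrArg mono (Prod.ext (Subtype.ext ?_) (Subtype.ext ?_))
  · rw [p]
    show permOf idElt * permOf c.2 = permOf c.2
    rw [idElt_perm, one_mul]
  · rw [q]
    show ofMask (pMask (dMo a) c) = ofMask (a ^^^ c.1)
    rw [pMask, dMo, imgMask_id (okMo_parts (okM_parts hc).1).2]

theorem dEl_xor {a b : ℕ} (ha : okD a = true) (hb : okD b = true) :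
    moEl (dMo a) * moEl (dMo b) = moEl (dMo (a ^^^ b)) := dEl_mul ha (dMo_ok hb)

theorem dEl_comm {a b : ℕ} (ha : okD a = true) (hb : okD b = true) :
    moEl (dMo a) * moEl (dMo b) = moEl (dMo b) * moEl (dMo a) := by
  rw [dEl_xor ha hb, dEl_xor hb ha, Nat.xor_comm]

theorem dEl_sq {a : ℕ} (ha : okD a = true) : moEl (dMo a) * moEl (dMo a) = 1 := by
  rw [dEl_xor ha ha, Nat.xor_self]
  exact moEl_one

theorem tMask_ok : okD tMask = true := by decide +kernel

theorem t2_moEl : E8Cent.t2 = moEl (dMo tMask) := by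
  refine incl2_inj ?_
  rw [incl2_moEl (dMo_ok tMask_ok), Co2Graph.incl2_t2]
  show mono ((1 : M24), E8Cent.xWord) = _
  exact congrArg mono (Prod.ext (Subtype.ext idElt_perm.symm) (Subtype.ext rfl))

/-! ### The trace -/

/-- Eight times the trace. -/
def tr (a : ↥Spor.Co2) : ℤ := trA (incl2 a)

theorem tr_conj {a b : ↥Spor.Co2} (h : IsConj a b) : tr a = tr b := by
  obtain ⟨c, rfl⟩ := isConj_iff.1 h
  rw [tr, tr, map_mul, map_mul, Co1Endgame.trA_comm, map_inv, inv_mul_cancel_left]

/-- The trace of a product from the codes. -/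
theorem tr_prod {e f : Mo} (he : okM e = true) (hf : okM f = true) :
    tr (moEl e * moEl f) = 8 * ((trN e f : ℤ) - 24) := by
  obtain ⟨p1, c1⟩ := pairMul_monoP (okM_parts he).1 (okM_parts hf).1
  rw [tr, map_mul, incl2_moEl he, incl2_moEl hf, mono_mul, Co1Endgame.trA_mono, trN, Co1Endgame.force_eq,
    ← card_maskSet, ← card_maskSet, maskSet_and]
  have hfix : ∀ p, ((pairMul (monoP e (okM_parts he).1) (monoP f (okM_parts hf).1)).1 : Equiv.Perm GolayPt) p = p ↔
      p ∈ maskSet (fixMask e.2 f.2) := fun p => by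
    rw [p1, mem_maskSet, fixMask, testBit_mkMask, decide_eq_true (idx_lt p), Bool.true_and, Nat.beq_eq,
      ← idx_mul (okMo_parts (okM_parts he).1).1 (okMo_parts (okM_parts hf).1).1]
    exact idx_injective.eq_iff.symm
  simp only [hfix, c1]
  set F := maskSet (fixMask e.2 f.2)
  set m := pMask e f
  rw [sum_ite_mem, univ_inter]
  have hs : ∀ p, sgn (ofMask m) p = 1 - 2 * (if p ∈ maskSet m then (1 : ℤ) else 0) := fun p => by
    simp only [sgn, ofMask, mem_maskSet]
    rcases Bool.eq_false_or_eq_true (m.testBit (idx p)) with r | r <;> simp [r]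
  simp only [hs, mul_sub, sum_sub_distrib, sum_const, nsmul_eq_mul, ← mul_sum, sum_ite_mem, inter_comm F]
  have h1 : (maskSet m ∩ F).card ≤ F.card := card_le_card inter_subset_right
  have h2 : F.card ≤ 24 := card_le_univ F
  push_cast [Nat.cast_sub (show 2 * (maskSet m ∩ F).card ≤ 24 + F.card by omega)]
  ring

theorem tr_moEl {e : Mo} (he : okM e = true) : tr (moEl e) = 8 * ((trN e oneM : ℤ) - 24) := by
  rw [← tr_prod he oneM_ok, moEl_one, mul_one]

theorem trN_eq {e f : Mo} {n : ℕ} (he : okM e = true) (hf : okM f = true)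
    (h : tr (moEl e * moEl f) = 8 * ((n : ℤ) - 24)) : trN e f = n := by
  rw [tr_prod he hf] at h
  omega

theorem trN_one {e : Mo} {n : ℕ} (he : okM e = true) (h : tr (moEl e) = 8 * ((n : ℤ) - 24)) : trN e oneM = n :=
  trN_eq he oneM_ok (by rwa [moEl_one, mul_one])

end Cfsg.Agent.Co2Close
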