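import Cfsg.Agent.Lib.Co2Recog.Close.SylowData
import Cfsg.Agent.Lib.Co2Recog.Side.ModelBasic
import Cfsg.Agent.Lib.Co2Recog.Model.Count
import Cfsg.Agent.Lib.Golay.SingleBlockBase
import Mathlib.GroupTheory.Sylow

/-!
A Sylow 2-subgroup of the second Conway group: the monomial elements whose permutation lies in a fixed group of
order 256 keeping the pair and the octad.
-/

set_option autoImplicit false
set_option maxRecDepth 20000
set_option linter.style.haveILetI false

noncomputable section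

namespace Cfsg.Agent.Co2Close

open Cfsg Cfsg.Agent.Golay Cfsg.Agent.Leech Cfsg.Agent.PermCert Cfsg.Agent.SporPerm Cfsg.Agent.LeechMod
open Cfsg.Agent.Co2Recog.Layers (incl2 N2 liftU incl2_lift incl2_fix)
open Cfsg.Agent.Co2Graph (pairSet pairVal pairElt finite_Co2)
open scoped Pointwise

/-- The packed forward code. -/
def pKey (k : ℕ) : ℕ := pack 5 (fun i => PermCert.get 5 (pAt k).1 i) 24

theorem pAt_ok : allBelow (fun k => validElt 5 24 (pAt k) && isAutB (pAt k) &&
      ((Nat.beq (PermCert.get 5 (pAt k).1 0) 0 && Nat.beq (PermCert.get 5 (pAt k).1 23) 23) ||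
        (Nat.beq (PermCert.get 5 (pAt k).1 0) 23 && Nat.beq (PermCert.get 5 (pAt k).1 23) 0)) &&
      Nat.beq (imgMask (pAt k) E8Cent.oMask) E8Cent.oMask) 256 = true ∧
    (pGens.all fun g => validElt 5 24 g && isAutB g) = true ∧
    PermCert.get 5 (pAt 0).1 5 = 5 ∧ Nat.beq (pAt 0).1 (idCode 5 24) = true := by decide +kernel

theorem pStep_ok : allBelow (fun k => allBelow (fun j => Nat.blt (pStep j k) 256 &&
      Nat.beq (PermCert.mul 5 24 (pGens.getD j (0, 0)) (pAt k)).1 (pAt (pStep j k)).1) 4) 256 = true := by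
  decide +kernel

theorem pPar_ok : allBelow (fun k => Nat.beq k 0 || ((Nat.blt (pPar.getD k (0, 0)).1 k &&
      Nat.blt (pPar.getD k (0, 0)).2 4) &&
      Nat.beq (PermCert.mul 5 24 (pGens.getD (pPar.getD k (0, 0)).2 (0, 0)) (pAt (pPar.getD k (0, 0)).1)).1
        (pAt k).1)) 256 = true := by
  decide +kernel

theorem pKey_nodup : ((List.range 256).map pKey).Nodup := by decide +kernel

theorem pAt_parts {k : ℕ} (hk : k < 256) : validElt 5 24 (pAt k) = true ∧ isAutB (pAt k) = true ∧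
    ((PermCert.get 5 (pAt k).1 0 = 0 ∧ PermCert.get 5 (pAt k).1 23 = 23) ∨
      (PermCert.get 5 (pAt k).1 0 = 23 ∧ PermCert.get 5 (pAt k).1 23 = 0)) ∧
    imgMask (pAt k) E8Cent.oMask = E8Cent.oMask := by
  have h := allBelow_spec _ _ pAt_ok.1 k hk
  simp only [Bool.and_eq_true, Bool.or_eq_true, Nat.beq_eq] at h
  exact ⟨h.1.1.1, h.1.1.2, h.1.2, h.2⟩

theorem gen_parts {j : ℕ} (hj : j < 4) : validElt 5 24 (pGens.getD j (0, 0)) = true := by
  have hl : pGens.length = 4 := by decide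
  have h := List.all_eq_true.1 pAt_ok.2.1 (pGens.getD j (0, 0)) (by
    rw [List.getD_eq_getElem _ _ (by omega)]; exact List.getElem_mem _)
  rw [Bool.and_eq_true] at h
  exact h.1

/-- The permutation with a number. -/
def pPerm (k : ℕ) : Equiv.Perm GolayPt := permOf (pAt k)

theorem pPerm_zero : pPerm 0 = 1 :=
  SB.permOf_eq_one (pAt_parts (by norm_num)).1 (Nat.eq_of_beq_eq_true pAt_ok.2.2.2)

theorem pPerm_step {j k : ℕ} (hj : j < 4) (hk : k < 256) :
    pStep j k < 256 ∧ permOf (pGens.getD j (0, 0)) * pPerm k = pPerm (pStep j k) := by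
  have h := allBelow_spec _ _ (allBelow_spec _ _ pStep_ok k hk) j hj
  simp only [Bool.and_eq_true, Nat.blt_eq, Nat.beq_eq] at h
  exact ⟨h.1, SB.permOf_mul_eq (gen_parts hj) (pAt_parts hk).1 (pAt_parts h.1).1 h.2⟩

theorem pPerm_mul : ∀ {a : ℕ}, a < 256 → ∀ {b : ℕ}, b < 256 → ∃ c < 256, pPerm a * pPerm b = pPerm c := by
  intro a
  induction a using Nat.strong_induction_on with
  | _ a ih =>
    intro ha b hb
    rcases Nat.eq_zero_or_pos a with rfl | h0
    · exact ⟨b, hb, by rw [pPerm_zero, one_mul]⟩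
    have h := allBelow_spec _ _ pPar_ok a ha
    simp only [Bool.or_eq_true, Bool.and_eq_true, Nat.blt_eq, Nat.beq_eq] at h
    obtain ⟨⟨hp, hj⟩, he⟩ := h.resolve_left (by omega)
    have hp' : (pPar.getD a (0, 0)).1 < 256 := hp.trans ha
    obtain ⟨c, hc, e⟩ := ih _ hp hp' hb
    obtain ⟨h1, h2⟩ := pPerm_step hj hc
    refine ⟨_, h1, ?_⟩
    rw [← h2, ← e, ← mul_assoc]
    exact congrArg (· * pPerm b) (SB.permOf_mul_eq (gen_parts hj) (pAt_parts hp').1 (pAt_parts ha).1 he).symm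

theorem pPerm_inj {a b : ℕ} (ha : a < 256) (hb : b < 256) (h : pPerm a = pPerm b) : a = b := by
  have e : pKey a = pKey b := SB.pack_eq_of_get fun i hi => SB.permOf_injective (pAt_parts ha).1 (pAt_parts hb).1 h i hi
  exact List.inj_on_of_nodup_map pKey_nodup (List.mem_range.2 ha) (List.mem_range.2 hb) e

theorem pPerm_M24 {k : ℕ} (hk : k < 256) : pPerm k ∈ M24 := permOf_mem_M24 (pAt_parts hk).1 (pAt_parts hk).2.1

theorem pPerm_pair {k : ℕ} (hk : k < 256) : pPerm k • pairSet = pairSet := by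
  obtain ⟨hv, -, hp, -⟩ := pAt_parts hk
  refine Finset.eq_of_subset_of_card_le ?_ (by rw [Finset.card_smul_finset])
  have hs : ∀ p : GolayPt, p ∈ pairSet ↔ idx p = 0 ∨ idx p = 23 := by decide +kernel
  intro y hy
  obtain ⟨p, h, rfl⟩ := Finset.mem_smul_finset.1 hy
  rw [hs] at h
  rw [hs, Equiv.Perm.smul_def, pPerm, idx_permOf hv]
  rcases h with e | e <;> rcases hp with ⟨u, v⟩ | ⟨u, v⟩ <;> rw [e] <;> omega

theorem pPerm_oct {k : ℕ} (hk : k < 256) : pPerm k • maskSet E8Cent.oMask = maskSet E8Cent.oMask := by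
  obtain ⟨hv, -, -, ho⟩ := pAt_parts hk
  rw [pPerm, maskSet_imgMask hv, ho]

theorem one_code : mono (⟨pPerm 0, pPerm_M24 (by norm_num)⟩, (0 : golayCode)) = 1 := by
  rw [← Leech.diag_zero]
  exact congrArg mono (Prod.ext (Subtype.ext pPerm_zero) rfl)

/-- **The subgroup**: monomial elements with permutation in the group of order 256. -/
def S0 : Subgroup ↥Spor.Co2 :=
  { carrier := {x | ∃ k, ∃ hk : k < 256, ∃ c : golayCode, incl2 x = mono (⟨pPerm k, pPerm_M24 hk⟩, c)}
    one_mem' := ⟨0, by norm_num, 0, (map_one incl2).trans one_code.symm⟩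
    mul_mem' := by
      rintro x y ⟨a, ha, c, hc⟩ ⟨b, hb, d, hd⟩
      obtain ⟨k, hk, e⟩ := pPerm_mul ha hb
      refine ⟨k, hk, (pairMul (⟨pPerm a, pPerm_M24 ha⟩, c) (⟨pPerm b, pPerm_M24 hb⟩, d)).2, ?_⟩
      rw [map_mul, hc, hd, mono_mul]
      exact congrArg mono (Prod.ext (Subtype.ext e) rfl)
    inv_mem' := by
      intro x hx
      haveI := finite_Co2
      have hp : ∀ n : ℕ, x ^ n ∈ {x : ↥Spor.Co2 | ∃ k, ∃ hk : k < 256, ∃ c : golayCode,
          incl2 x = mono (⟨pPerm k, pPerm_M24 hk⟩, c)} := by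
        intro n
        induction n with
        | zero => exact ⟨0, by norm_num, 0, (map_one incl2).trans one_code.symm⟩
        | succ n ih =>
          obtain ⟨a, ha, c, hc⟩ := ih
          obtain ⟨b, hb, d, hd⟩ := hx
          obtain ⟨k, hk, e⟩ := pPerm_mul ha hb
          refine ⟨k, hk, (pairMul (⟨pPerm a, pPerm_M24 ha⟩, c) (⟨pPerm b, pPerm_M24 hb⟩, d)).2, ?_⟩
          rw [pow_succ, map_mul, hc, hd, mono_mul]
          exact congrArg mono (Prod.ext (Subtype.ext e) rfl)
      have e : x⁻¹ = x ^ (orderOf x - 1) := by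
        refine inv_eq_of_mul_eq_one_right ?_
        rw [← pow_succ', Nat.sub_add_cancel (orderOf_pos x), pow_orderOf_eq_one]
      rw [e]
      exact hp _ }

theorem mem_S0 {x : ↥Spor.Co2} : x ∈ S0 ↔
    ∃ k, ∃ hk : k < 256, ∃ c : golayCode, incl2 x = mono (⟨pPerm k, pPerm_M24 hk⟩, c) := Iff.rfl

/-- The code vanishes at the pair. -/
theorem code_pair {x : ↥Spor.Co2} {k : ℕ} (hk : k < 256) {c : golayCode}
    (h : incl2 x = mono (⟨pPerm k, pPerm_M24 hk⟩, c)) : c ∈ pairVal.ker := by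
  have hfix := incl2_fix x
  rw [h] at hfix
  have hval : ∀ q, Spor.vecU q = if q ∈ pairSet then 4 else 0 := by decide +kernel
  have key : ∀ p ∈ pairSet, (c : GolayPt → ZMod 2) p = 0 := by
    intro p hp
    have e := congrFun (congrArg (fun v : leechLattice => (v : GolayPt → ℤ)) hfix) p
    change ((mono (⟨pPerm k, pPerm_M24 hk⟩, c) • Spor.leechU : leechLattice) : GolayPt → ℤ) p = Spor.vecU p at e
    rw [mono_smul] at e
    change sgn (c : GolayPt → ZMod 2) p * Spor.vecU ((pPerm k).symm p) = Spor.vecU p at e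
    have hm : (pPerm k).symm p ∈ pairSet := by
      have hp' : p ∈ pPerm k • pairSet := (pPerm_pair hk).symm ▸ hp
      obtain ⟨q, hq, rfl⟩ := Finset.mem_smul_finset.1 hp'
      rwa [Equiv.Perm.smul_def, Equiv.symm_apply_apply]
    rw [hval, hval, if_pos hp, if_pos hm, sgn] at e
    by_contra hne
    rw [if_neg hne] at e
    norm_num at e
  rw [AddMonoidHom.mem_ker]
  exact Prod.ext (key none (by decide)) (key (some 0) (by decide))

/-- The element with a permutation and a code. -/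
def sElt (x : Fin 256 × ↥pairVal.ker) : ↥Spor.Co2 :=
  pairElt (pPerm x.1) (mem_stOct.2 ⟨pPerm_M24 x.1.2, pPerm_pair x.1.2⟩) x.2

theorem card_pairKer : Nat.card ↥pairVal.ker = 1024 := by
  have h := AddSubgroup.card_eq_card_quotient_mul_card_addSubgroup pairVal.ker
  have hs : Function.Surjective pairVal := by
    have hc : ∀ m : ℕ, inCode m = true → ofMask m ∈ golayCode := fun m => ofMask_mem_golayCode
    have hw : ∀ v : ZMod 2 × ZMod 2, ∃ m ∈ [0, E8Cent.oMask, 5279, 16771936],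
        inCode m = true ∧ ofMask m none = v.1 ∧ ofMask m (some 0) = v.2 := by decide +kernel
    intro v
    obtain ⟨m, -, h1, h2, h3⟩ := hw v
    exact ⟨⟨_, hc m h1⟩, Prod.ext h2 h3⟩
  rw [Nat.card_congr (QuotientAddGroup.quotientKerEquivOfSurjective pairVal hs).toEquiv, Nat.card_prod,
    Nat.card_zmod, card_golayCode] at h
  omega

theorem card_S0 : Nat.card ↥S0 = 262144 := by
  haveI := finite_Co2
  let f : Fin 256 × ↥pairVal.ker → ↥S0 := fun x =>
    ⟨sElt x, x.1, x.1.2, (x.2 : golayCode), by rw [sElt, pairElt, incl2_lift]⟩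
  have hf : Function.Bijective f := by
    constructor
    · intro x y e
      have hs : ∀ k : Fin 256, pPerm k ∈ stOct pairSet := fun k => mem_stOct.2 ⟨pPerm_M24 k.2, pPerm_pair k.2⟩
      obtain ⟨a, b⟩ := Co2Graph.pairElt_inj (hg := hs x.1) (hg' := hs y.1) (congrArg Subtype.val e)
      exact Prod.ext (Fin.ext (pPerm_inj x.1.2 y.1.2 a)) b
    · rintro ⟨x, k, hk, c, hc⟩
      refine ⟨(⟨k, hk⟩, ⟨c, code_pair hk hc⟩), Subtype.ext (Co2Recog.Side.incl2_injective ?_)⟩
      rw [hc]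
      rfl
  rw [← Nat.card_congr (Equiv.ofBijective f hf), Nat.card_prod, Nat.card_fin, card_pairKer]

theorem A2_le_S0 : Co2Recog.Side.A2 ≤ S0 := by
  rintro x ⟨c, hc⟩
  refine ⟨0, by norm_num, c, hc.trans (congrArg mono (Prod.ext (Subtype.ext pPerm_zero.symm) rfl))⟩

theorem S0_isPGroup : IsPGroup 2 ↥S0 := IsPGroup.of_card (n := 18) (by rw [card_S0]; norm_num)

/-- **A Sylow 2-subgroup.** -/
def sylow0 : Sylow 2 ↥Spor.Co2 :=
  haveI := finite_Co2
  haveI : Fact (Nat.Prime 2) := ⟨Nat.prime_two⟩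
  S0_isPGroup.toSylow (by
    have h := Subgroup.card_mul_index S0
    rw [card_S0, Co2Graph.card_Co2] at h
    omega)

theorem coe_sylow0 : (sylow0 : Subgroup ↥Spor.Co2) = S0 := rfl

end Cfsg.Agent.Co2Close
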