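import Cfsg.Agent.Lib.Co2Recog.Close.Cand
import Cfsg.Agent.Lib.Co1Recog.Endgame.Setting

/-!
The two trees of groups of sign changes: a member of the class of the octad involution commuting with the
dodecad (octad) sign change and with product in the same class lies in the second Conway group.
-/

set_option autoImplicit false
set_option maxRecDepth 20000
set_option linter.unusedSectionVars false

noncomputable section

namespace Cfsg.Agent.Co2Close

open Cfsg Cfsg.Agent.PermCert
open Cfsg.Agent.Golay (imgMask)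
open Cfsg.Agent.Co1Endgame (Mo idElt mul_pow_mul inv_mul_conj)

attribute [local irreducible] nodeList candList kidPerms stabList uMask

universe u

section dihedral

variable {G : Type u} [Group G]

theorem conj_even {a x : G} (ha : a * a = 1) (hx : x * x = 1) (l : ℕ) :
    ((a * x) ^ l)⁻¹ * a * ((a * x) ^ l)⁻¹⁻¹ = a * (a * x) ^ (2 * l) := by
  rw [inv_inv, ← mul_pow_mul ha hx, mul_assoc, ← pow_add, two_mul]

theorem conj_odd {a x : G} (ha : a * a = 1) (hx : x * x = 1) (l : ℕ) :
    ((a * x) ^ l)⁻¹ * x * ((a * x) ^ l)⁻¹⁻¹ = a * (a * x) ^ (2 * l + 1) := by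
  have e : x = a * (a * x) := by rw [← mul_assoc, ha, one_mul]
  rw [inv_inv]
  calc ((a * x) ^ l)⁻¹ * x * (a * x) ^ l = ((a * x) ^ l)⁻¹ * (a * (a * x)) * (a * x) ^ l := by rw [← e]
    _ = ((a * x) ^ l)⁻¹ * a * ((a * x) * (a * x) ^ l) := by simp only [mul_assoc]
    _ = a * ((a * x) ^ l * ((a * x) * (a * x) ^ l)) := by rw [← mul_pow_mul ha hx, mul_assoc]
    _ = _ := by rw [← pow_succ', ← pow_add]; congr 2; omega

/-- Commuting with the common centraliser. -/
def CentBoth (a x c : G) : Prop := ∀ w, Commute w a → Commute w x → Commute w c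

/-- The two ways in which the central involution of a dihedral group can fuse. -/
def Fuse1 (a x i : G) : Prop :=
  ∃ c d, CentBoth a x c ∧ CentBoth a x d ∧ c * a * c⁻¹ = a * i ∧ d * x * d⁻¹ = x * i

/-- The second way. -/
def Fuse2 (a x i : G) : Prop :=
  ∃ c d, CentBoth a x c ∧ CentBoth a x d ∧ c * a * c⁻¹ = x * i ∧ d * x * d⁻¹ = a * i

/-- **Two involutions.** -/
theorem dihedral [Finite G] {a x : G} (ha : a * a = 1) (hx : x * x = 1) :
    (∃ c, CentBoth a x c ∧ c * a * c⁻¹ = x) ∨
    ∃ i, i * i = 1 ∧ i ≠ 1 ∧ Commute i a ∧ Commute i x ∧ CentBoth a x i ∧ (Fuse1 a x i ∨ Fuse2 a x i) := by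
  have hr := pow_orderOf_eq_one (a * x)
  have hn : 0 < orderOf (a * x) := orderOf_pos _
  have hcb : ∀ k : ℕ, CentBoth a x ((a * x) ^ k) := fun k w h1 h2 => (h1.mul_right h2).pow_right k
  have hcb' : ∀ k : ℕ, CentBoth a x ((a * x) ^ k)⁻¹ := fun k w h1 h2 => (hcb k w h1 h2).inv_right
  obtain ⟨m, hm | hm⟩ := Nat.even_or_odd' (orderOf (a * x))
  · right
    have hr2 : (a * x) ^ m * (a * x) ^ m = 1 := by rw [← pow_add, ← two_mul, ← hm, hr]
    have hai : Commute ((a * x) ^ m) a := by
      show _ = _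
      rw [mul_pow_mul ha hx, inv_eq_of_mul_eq_one_right hr2]
    have hix : Commute ((a * x) ^ m) x := by
      have h : Commute ((a * x) ^ m) (a * (a * x)) := hai.mul_right (Commute.self_pow _ m).symm
      rwa [← mul_assoc, ha, one_mul] at h
    have hxi : x * (a * x) ^ m = a * (a * x) ^ (m + 1) := by
      rw [pow_succ', ← mul_assoc a, ← mul_assoc a, ha, one_mul]
    refine ⟨_, hr2, fun e => ?_, hai, hix, hcb m, ?_⟩
    · have := Nat.le_of_dvd (by omega) (orderOf_dvd_of_pow_eq_one e)
      omega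
    · obtain ⟨l, rfl | rfl⟩ := Nat.even_or_odd' m
      · refine Or.inl ⟨_, _, hcb' l, hcb' l, conj_even ha hx l, ?_⟩
        rw [hxi]; exact conj_odd ha hx l
      · refine Or.inr ⟨_, _, hcb' (l + 1), hcb' l, ?_, conj_odd ha hx l⟩
        rw [hxi, show 2 * l + 1 + 1 = 2 * (l + 1) by ring]
        exact conj_even ha hx (l + 1)
  · left
    refine ⟨((a * x) ^ (m + 1))⁻¹, hcb' _, ?_⟩
    rw [conj_even ha hx, show 2 * (m + 1) = 2 * m + 1 + 1 by ring, pow_succ, ← hm, hr, one_mul, ← mul_assoc, ha,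
      one_mul]

theorem conj_mul_comm {c p q y : G} (h : Commute y c) (hc : c * p * c⁻¹ = q) : IsConj (p * y) (q * y) :=
  isConj_iff.2 ⟨c, by
    rw [← hc]
    calc c * (p * y) * c⁻¹ = c * p * (y * c⁻¹) := by group
      _ = c * p * (c⁻¹ * y) := by rw [h.inv_right.eq]
      _ = _ := by group⟩

end dihedral

/-! ### The checks -/

/-- A node. -/
def nd (n : ℕ) : List ℕ × List ℕ × ℕ × List Wit := nodeList.getD n ([], [], 0, [])

/-- The span at a node. -/
def ndV (n : ℕ) : List ℕ := spanX (nd n).1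

theorem memB_iff {x : ℕ} {l : List ℕ} : memB x l = true ↔ x ∈ l := by
  simp only [memB, List.any_eq_true, Nat.beq_eq]
  exact ⟨fun ⟨y, hy, e⟩ => e ▸ hy, fun h => ⟨x, h, rfl⟩⟩

theorem node_spec {n : ℕ} (hn : n < 11) :
    (∀ e ∈ ndV n, okD e = true) ∧ (∀ g ∈ (nd n).1, okD g = true) ∧ (∀ f ∈ (nd n).2.1, f ∈ ndV n) ∧
    ((nd n).2.2.1 < (nd n).2.1.length ∧ trN (dMo (tMask ^^^ (nd n).2.1.getD (nd n).2.2.1 0)) oneM ≠ 16) ∧
    (uMask ∈ ndV n ∨ bMask ∈ ndV n) ∧
    witsOK n (nd n).1 (nd n).2.1 (ndV n) candList (nd n).2.2.2 = true := by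
  have h := allBelow_spec _ _ nodes_ok n hn
  simp only [nodeOK, Bool.and_eq_true, List.all_eq_true, Bool.or_eq_true, memB_iff, Nat.blt_eq,
    Bool.not_eq_true', ← Bool.not_eq_true, Nat.beq_eq] at h
  obtain ⟨⟨⟨⟨⟨⟨h1, h2⟩, h3⟩, h4⟩, h5⟩, h6⟩, h7⟩ := h
  exact ⟨h2, h1, h3, ⟨h4, h5⟩, h6, h7⟩

theorem witsOK_spec (n : ℕ) (gs F V : List ℕ) : ∀ (cs : List Mo) (ws : List Wit),
    witsOK n gs F V cs ws = true → ∀ c ∈ cs, ∃ w, candWitOK n gs F V c w = true
  | [], _, _, c, hc => by simp at hc
  | _ :: _, [], h, _, _ => by simp [witsOK] at h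
  | a :: as, w :: ws, h, c, hc => by
    simp only [witsOK, Bool.and_eq_true] at h
    rcases List.mem_cons.1 hc with rfl | r
    · exact ⟨w, h.1⟩
    · exact witsOK_spec n gs F V as ws h.2 c r

theorem conjTo_spec (p : Mo) : ∀ (l : List Mo) (ys : List ℕ), conjTo p l ys = true →
    ∀ y ∈ ys, ∃ z ∈ l, okM z = true ∧ Co1Endgame.prodEqB p z (dMo y) p = true
  | [], [], _, y, hy => by simp at hy
  | [], _ :: _, h, _, _ => by simp [conjTo] at h
  | _ :: _, [], _, y, hy => by simp at hy
  | a :: as, b :: bs, h, y, hy => by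
    simp only [conjTo, Bool.and_eq_true] at h
    rcases List.mem_cons.1 hy with rfl | r
    · exact ⟨a, List.mem_cons_self, h.1.1, h.1.2⟩
    · obtain ⟨z, hz, hz'⟩ := conjTo_spec p as bs h.2 y r
      exact ⟨z, List.mem_cons_of_mem _ hz, hz'⟩

theorem foldl_span_induct {P : ℕ → Prop} : ∀ (gs V : List ℕ), (∀ v ∈ V, P v) →
    (∀ g ∈ gs, ∀ v, P v → P (g ^^^ v)) → ∀ e ∈ gs.foldl (fun V g => V ++ V.map (g ^^^ ·)) V, P e
  | [], _, hV, _, e, he => hV e he
  | g :: gs, V, hV, hg, e, he => by
    refine foldl_span_induct gs (V ++ V.map (g ^^^ ·)) (fun v hv => ?_)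
      (fun g' h' => hg g' (List.mem_cons_of_mem _ h')) e he
    rcases List.mem_append.1 hv with r | r
    · exact hV v r
    · obtain ⟨w, hw, rfl⟩ := List.mem_map.1 r
      exact hg g List.mem_cons_self w (hV w hw)

theorem getD_mem {α : Type} {l : List α} {k : ℕ} (h : k < l.length) (d : α) : l.getD k d ∈ l := by
  rw [List.getD_eq_getElem _ _ h]
  exact List.getElem_mem _

/-! ### The setting -/

variable {G : Type u} [Group G]

/-- The hypotheses of the closing step, in the form used. -/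
structure Hyp (phi : ↥Spor.Co2 →* G) : Prop where
  inj : Function.Injective phi
  centre : ∀ g, g * phi E8Cent.t2 = phi E8Cent.t2 * g → g ∈ phi.range
  trEq : ∀ a b : ↥Spor.Co2, a * a = 1 → b * b = 1 → IsConj (phi a) (phi b) → tr a = tr b
  conjTr : ∀ a b : ↥Spor.Co2, a * a = 1 → b * b = 1 → tr a = tr b → IsConj a b
  trVal : ∀ a : ↥Spor.Co2, a * a = 1 → a ≠ 1 → tr a = -64 ∨ tr a = 0 ∨ tr a = 64

/-- The dodecad sign change. -/
def uEl : ↥Spor.Co2 := moEl (dMo uMask)

/-- The octad sign change. -/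
def bEl : ↥Spor.Co2 := moEl (dMo bMask)

theorem t2_sq : E8Cent.t2 * E8Cent.t2 = 1 := by rw [t2_moEl]; exact dEl_sq tMask_ok

theorem tr_t2 : tr E8Cent.t2 = -64 := by
  rw [t2_moEl, tr_moEl (dMo_ok tMask_ok), basic_ok.2.2.2.2.2.1]; norm_num

theorem tr_u : tr uEl = 0 := by rw [uEl, tr_moEl (dMo_ok basic_ok.2.1), basic_ok.2.2.2.2.2.2.1]; norm_num

theorem tr_b : tr bEl = 64 := by
  rw [bEl, tr_moEl (dMo_ok basic_ok.2.2.1), basic_ok.2.2.2.2.2.2.2.1]; norm_num

theorem sq_mul {H : Type*} [Group H] {a b : H} (ha : a * a = 1) (hb : b * b = 1) (h : Commute a b) :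
    a * b * (a * b) = 1 := by rw [mul_assoc, ← mul_assoc b, ← h.eq, mul_assoc, hb, mul_one, ha]

variable {phi : ↥Spor.Co2 →* G} (H : Hyp phi)
include H

theorem Hyp.sq_conj {x : G} {a : ↥Spor.Co2} (h : IsConj x (phi a)) (ha : a * a = 1) : x * x = 1 := by
  obtain ⟨c, rfl⟩ := isConj_iff.1 h.symm
  calc c * phi a * c⁻¹ * (c * phi a * c⁻¹) = c * (phi a * phi a) * c⁻¹ := by group
    _ = 1 := by rw [← map_mul, ha, map_one, mul_one, mul_inv_cancel]

theorem Hyp.tr_of {a : ↥Spor.Co2} (ha : a * a = 1) (h : IsConj (phi a) (phi E8Cent.t2)) : tr a = -64 := by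
  rw [H.trEq a _ ha t2_sq h, tr_t2]

theorem Hyp.conjT {a : ↥Spor.Co2} (ha : a * a = 1) (h : tr a = -64) : IsConj (phi a) (phi E8Cent.t2) :=
  phi.map_isConj (H.conjTr a _ ha t2_sq (h.trans tr_t2.symm))

theorem Hyp.comm_of {a b : ↥Spor.Co2} (h : Commute (phi a) (phi b)) : a * b = b * a :=
  H.inj (by rw [map_mul, map_mul]; exact h.eq)

/-- The centraliser of a conjugate of the octad involution in the group lies in the group. -/
theorem Hyp.centT {a : ↥Spor.Co2} (ha : a * a = 1) (h : tr a = -64) {g : G} (hg : Commute g (phi a)) :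
    g ∈ phi.range := by
  obtain ⟨c, hc⟩ := isConj_iff.1 (H.conjTr a _ ha t2_sq (h.trans tr_t2.symm))
  have h' : (phi c * g * (phi c)⁻¹) * phi E8Cent.t2 = phi E8Cent.t2 * (phi c * g * (phi c)⁻¹) := by
    rw [← hc, map_mul, map_mul, map_inv]
    exact (hg.map (MulAut.conj (phi c)).toMonoidHom).eq
  have e : g = (phi c)⁻¹ * (phi c * g * (phi c)⁻¹) * phi c := by group
  rw [e]
  exact mul_mem (mul_mem (inv_mem ⟨c, rfl⟩) (H.centre _ h')) ⟨c, rfl⟩

/-- Transport by an element of the group. -/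
theorem Hyp.transport {x : G} (h : ↥Spor.Co2) (hm : phi h * x * (phi h)⁻¹ ∈ phi.range) : x ∈ phi.range := by
  have e : x = (phi h)⁻¹ * (phi h * x * (phi h)⁻¹) * phi h := by group
  rw [e]
  exact mul_mem (mul_mem (inv_mem ⟨_, rfl⟩) hm) ⟨_, rfl⟩

omit H in
/-- The statement for one sign change. -/
def Core (phi : ↥Spor.Co2 →* G) (g : ↥Spor.Co2) : Prop :=
  ∀ x : G, IsConj x (phi E8Cent.t2) → Commute x (phi g) → IsConj (x * phi g) (phi E8Cent.t2) → x ∈ phi.range

theorem Hyp.spanX_comm {x : G} {gs : List ℕ} (hok : ∀ g ∈ gs, okD g = true)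
    (hx : ∀ g ∈ gs, Commute x (phi (moEl (dMo g)))) :
    ∀ e ∈ spanX gs, okD e = true ∧ Commute x (phi (moEl (dMo e))) := by
  refine foldl_span_induct gs [0] (fun v hv => ?_) fun g hg v hv => ⟨okD_xor (hok g hg) hv.1, ?_⟩
  · rw [List.mem_singleton] at hv
    subst hv
    refine ⟨by decide +kernel, ?_⟩
    rw [show moEl (dMo 0) = 1 from moEl_one, map_one]
    exact Commute.one_right x
  · rw [← dEl_xor (hok g hg) hv.1, map_mul]
    exact (hx g hg).mul_right hv.2

/-- The tree. -/
theorem Hyp.core [Finite G] (d : ℕ) : ∀ n : ℕ, n < 11 → 11 - n ≤ d → (5 ≤ n → Core phi uEl) →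
    ∀ x : G, IsConj x (phi E8Cent.t2) → (∀ g ∈ (nd n).1, Commute x (phi (moEl (dMo g)))) →
    (∀ f ∈ (nd n).2.1, IsConj (x * phi (moEl (dMo f))) (phi E8Cent.t2)) → x ∈ phi.range := by
  induction d with
  | zero => intro n hn hd; omega
  | succ d ih =>
    intro n hn hd hU x hx hcomm hprod
    by_contra hout
    obtain ⟨hVok, hgok, hFV, ⟨hf0, hf0tr⟩, hanchor, hwits⟩ := node_spec hn
    set T := phi E8Cent.t2 with hT
    let D : ℕ → G := fun e => phi (moEl (dMo e))
    have hT2 : T * T = 1 := by rw [hT, ← map_mul, t2_sq, map_one]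
    have hx2 : x * x = 1 := H.sq_conj hx t2_sq
    have hxV : ∀ e ∈ ndV n, Commute x (D e) := fun e he => (H.spanX_comm hgok hcomm e he).2
    have hDT : ∀ e, okD e = true → Commute (D e) T := fun e he => by
      show phi _ * phi _ = phi _ * phi _
      rw [t2_moEl, ← map_mul, ← map_mul, dEl_comm he tMask_ok]
    have hDD : ∀ e, okD e = true → D (tMask ^^^ e) = T * D e := fun e he => by
      show phi _ = _
      rw [← dEl_xor tMask_ok he, map_mul, hT, t2_moEl]
    rcases dihedral hT2 hx2 with ⟨c, hcb, hcx⟩ | ⟨i, hi2, hi1, hiT, hix, hcb, hfuse⟩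
    · have hf0' := getD_mem hf0 0
      set f := (nd n).2.1.getD (nd n).2.2.1 0
      have hokf := hVok f (hFV f hf0')
      have hcf : Commute (D f) c := hcb _ (hDT f hokf) (hxV f (hFV f hf0')).symm
      have h1 : IsConj (phi (moEl (dMo (tMask ^^^ f)))) T := by
        show IsConj (D (tMask ^^^ f)) T
        rw [hDD f hokf]
        exact (conj_mul_comm hcf hcx).trans (hprod f hf0')
      refine hf0tr (trN_one (dMo_ok (okD_xor tMask_ok hokf)) ?_)
      rw [H.tr_of (dEl_sq (okD_xor tMask_ok hokf)) h1]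
      norm_num
    · obtain ⟨i0, rfl⟩ := H.centre i hiT.eq
      have hi0 : i0 * i0 = 1 := H.inj (by rw [map_mul, hi2, map_one])
      have hi01 : i0 ≠ 1 := fun e => hi1 (by rw [e, map_one])
      have hit : i0 * E8Cent.t2 = E8Cent.t2 * i0 := H.comm_of hiT
      have hiV : ∀ e ∈ ndV n, i0 * moEl (dMo e) = moEl (dMo e) * i0 := fun e he =>
        (H.comm_of (hcb _ (hDT e (hVok e he)) (hxV e he).symm)).symm
      have hiu : i0 * moEl (dMo uMask) = moEl (dMo uMask) * i0 := by
        rcases hanchor with r | r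
        · exact hiV _ r
        · have e : moEl (dMo bMask) * moEl (dMo tMask) = moEl (dMo uMask) := by
            rw [dEl_xor (hVok _ r) tMask_ok, bMask, Nat.xor_assoc, Nat.xor_self, Nat.xor_zero]
          rw [← e, ← t2_moEl, ← mul_assoc, hiV _ r, mul_assoc, hit, mul_assoc]
      have htit : tr (i0 * E8Cent.t2) = -64 := by
        refine H.tr_of (sq_mul hi0 t2_sq hit) ?_
        rw [map_mul, ← hT, hiT.eq]
        rcases hfuse with ⟨c, d', -, -, hc, -⟩ | ⟨c, d', -, -, -, hd'⟩
        · exact (isConj_iff.2 ⟨c, hc⟩ : IsConj T (T * phi i0)).symm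
        · exact ((isConj_iff.2 ⟨d', hd'⟩ : IsConj x (T * phi i0)).symm).trans hx
      obtain ⟨cc, hcc, rfl⟩ := cand_complete hi0 hi01 hit hiu htit
      have hok : okM cc = true := List.all_eq_true.1 cand_ok cc hcc
      set I := phi (moEl cc) with hI
      have hID : ∀ e ∈ ndV n, Commute I (D e) := fun e he => by
        show phi _ * phi _ = phi _ * phi _
        rw [← map_mul, ← map_mul, hiV e he]
      have hsqT : ∀ e ∈ ndV n,
          moEl cc * moEl (dMo (tMask ^^^ e)) * (moEl cc * moEl (dMo (tMask ^^^ e))) = 1 := fun e he => by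
        refine sq_mul hi0 (dEl_sq (okD_xor tMask_ok (hVok e he))) ?_
        rw [← dEl_xor tMask_ok (hVok e he), ← t2_moEl]
        exact Commute.mul_right hit (hiV e he)
      have hprodT : ∀ e ∈ ndV n, phi (moEl cc * moEl (dMo (tMask ^^^ e))) = T * I * D e := fun e he => by
        rw [map_mul]
        show I * D (tMask ^^^ e) = _
        rw [hDD e (hVok e he), ← mul_assoc, hiT.eq]
      obtain ⟨w, hw⟩ := witsOK_spec _ _ _ _ _ _ hwits cc hcc
      have hkill : ∀ cs kill, killOK (nd n).2.1 (ndV n) cc cs kill = true →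
          (cs = 0 ∧ ¬ Fuse2 T x I) ∨ (cs = 1 ∧ ¬ Fuse1 T x I) := by
        intro cs kill hk
        rw [killOK] at hk
        rcases Bool.eq_false_or_eq_true (Nat.beq cs 0) with r | r <;> rw [r] at hk
        · rw [cond_true, Bool.and_eq_true, Nat.blt_eq] at hk
          refine Or.inl ⟨Nat.beq_eq.mp r, fun ⟨c, d', hc1, hd1, hc, hd'⟩ => ?_⟩
          simp only [Bool.not_eq_true', ← Bool.not_eq_true, Nat.beq_eq] at hk
          refine hk.2 (trN_eq hok (dMo_ok (okD_xor tMask_ok ?_)) ?_)
          · rcases kill with _ | k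
            · show okD 0 = true
              decide +kernel
            · exact hVok _ (hFV _ (getD_mem (Nat.lt_of_succ_lt_succ hk.1) 0))
          rcases kill with _ | k
          · rw [List.getD_cons_zero, Nat.xor_zero, ← t2_moEl, htit]; norm_num
          · have hm := getD_mem (Nat.lt_of_succ_lt_succ hk.1) (0 : ℕ)
            rw [List.getD_cons_succ]
            set f := (nd n).2.1.getD k 0
            rw [H.tr_of (hsqT f (hFV f hm))]
            · norm_num
            · rw [hprodT f (hFV f hm)]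
              exact (conj_mul_comm (hd1 _ (hDT f (hVok f (hFV f hm))) (hxV f (hFV f hm)).symm) hd').symm.trans
                (hprod f hm)
        · rw [cond_false] at hk
          simp only [Bool.and_eq_true, Nat.blt_eq, Nat.beq_eq, Bool.not_eq_true', ← Bool.not_eq_true] at hk
          refine Or.inr ⟨hk.1.1, fun ⟨c, d', hc1, hd1, hc, hd'⟩ => ?_⟩
          have hm := getD_mem hk.1.2 (0 : ℕ)
          set e := (ndV n).getD kill 0
          have hoke := okD_xor tMask_ok (hVok e hm)
          refine hk.2 (trN_eq hok (dMo_ok hoke) ?_)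
          rw [← tr_moEl (dMo_ok hoke)]
          refine H.trEq _ _ (hsqT e hm) (dEl_sq hoke) ?_
          rw [hprodT e hm]
          show IsConj _ (D (tMask ^^^ e))
          rw [hDD e (hVok e hm)]
          exact (conj_mul_comm (hc1 _ (hDT e (hVok e hm)) (hxV e hm).symm) hc).symm
      have hsrc : ∀ cs kill r idx, killOK (nd n).2.1 (ndV n) cc cs kill = true →
          srcOK (nd n).2.1 (ndV n) cc cs r idx = true →
          okM (srcMo (nd n).2.1 (ndV n) cc r idx) = true ∧
          moEl (srcMo (nd n).2.1 (ndV n) cc r idx) * moEl (srcMo (nd n).2.1 (ndV n) cc r idx) = 1 ∧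
          Commute x (phi (moEl (srcMo (nd n).2.1 (ndV n) cc r idx))) ∧
          IsConj (x * phi (moEl (srcMo (nd n).2.1 (ndV n) cc r idx))) T := by
        intro cs kill r idx hk hs
        have hcases : (cs = 0 ∧ Fuse1 T x I) ∨ (cs = 1 ∧ Fuse2 T x I) :=
          (hkill cs kill hk).imp (fun q => ⟨q.1, hfuse.resolve_right q.2⟩) fun q => ⟨q.1, hfuse.resolve_left q.2⟩
        match r, hs with
        | 0, _ =>
          refine ⟨hok, hi0, hix.symm, ?_⟩
          rcases hcases with ⟨-, c, d', -, -, -, hd'⟩ | ⟨-, c, d', -, -, hc, -⟩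
          · exact ((isConj_iff.2 ⟨d', hd'⟩ : IsConj x (x * I)).symm).trans hx
          · exact (isConj_iff.2 ⟨c, hc⟩ : IsConj T (x * I)).symm
        | 1, hs =>
          simp only [srcOK, Nat.blt_eq] at hs
          have hm := getD_mem hs (0 : ℕ)
          exact ⟨dMo_ok (hVok _ (hFV _ hm)), dEl_sq (hVok _ (hFV _ hm)), hxV _ (hFV _ hm), hprod _ hm⟩
        | 2, hs =>
          simp only [srcOK, Bool.and_eq_true, Nat.blt_eq, Nat.beq_eq] at hs
          obtain ⟨-, c, d', hc1, hd1, hc, hd'⟩ := hcases.resolve_right fun q => by omega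
          have hm := getD_mem hs.2 (0 : ℕ)
          simp only [srcMo]
          set f := (nd n).2.1.getD idx 0
          have hokf := hVok f (hFV f hm)
          refine ⟨okM_left hokf hok, ?_⟩
          rw [← dEl_mul hokf hok]
          refine ⟨sq_mul (dEl_sq hokf) hi0 (hiV f (hFV f hm)).symm, ?_, ?_⟩
          · rw [map_mul]; exact (hxV f (hFV f hm)).mul_right hix.symm
          · rw [map_mul]
            show IsConj (x * (D f * I)) T
            rw [(hID f (hFV f hm)).symm.eq, ← mul_assoc]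
            exact (conj_mul_comm (hd1 _ (hDT f hokf) (hxV f (hFV f hm)).symm) hd').symm.trans (hprod f hm)
        | 3, hs =>
          simp only [srcOK, Bool.and_eq_true, Nat.blt_eq, Nat.beq_eq] at hs
          obtain ⟨-, c, d', hc1, hd1, hc, hd'⟩ := hcases.resolve_left fun q => by omega
          have hm := getD_mem hs.1.2 (0 : ℕ)
          simp only [srcMo]
          set e := (ndV n).getD idx 0
          refine ⟨dMo_ok (hVok e hm), dEl_sq (hVok e hm), hxV e hm, ?_⟩
          refine (conj_mul_comm (hd1 _ (hDT e (hVok e hm)) (hxV e hm).symm) hd').trans ?_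
          rw [← hprodT e hm]
          refine H.conjT (hsqT e hm) ?_
          rw [tr_prod hok (dMo_ok (okD_xor tMask_ok (hVok e hm))), hs.2]; norm_num
        | 4, hs =>
          simp only [srcOK, Bool.and_eq_true, Nat.blt_eq, Nat.beq_eq] at hs
          obtain ⟨-, c, d', hc1, hd1, hc, hd'⟩ := hcases.resolve_left fun q => by omega
          have hm := getD_mem hs.1.2 (0 : ℕ)
          simp only [srcMo]
          set e := (ndV n).getD idx 0
          refine ⟨okM_left (hVok e hm) hok, ?_⟩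
          rw [← dEl_mul (hVok e hm) hok]
          refine ⟨sq_mul (dEl_sq (hVok e hm)) hi0 (hiV e hm).symm, ?_, ?_⟩
          · rw [map_mul]; exact (hxV e hm).mul_right hix.symm
          · rw [map_mul]
            show IsConj (x * (D e * I)) T
            rw [(hID e hm).symm.eq, ← mul_assoc]
            refine (conj_mul_comm (hc1 _ (hDT e (hVok e hm)) (hxV e hm).symm) hc).symm.trans ?_
            rw [← hDD e (hVok e hm)]
            refine H.conjT (dEl_sq (okD_xor tMask_ok (hVok e hm))) ?_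
            rw [tr_moEl (dMo_ok (okD_xor tMask_ok (hVok e hm))), hs.2]; norm_num
        | r + 5, hs => simp [srcOK] at hs
      cases w with
      | skip k =>
        simp only [candWitOK, Bool.and_eq_true, Nat.blt_eq, Bool.not_eq_true'] at hw
        have hm := getD_mem hw.1 (0 : ℕ)
        refine Bool.eq_false_iff.1 hw.2 ((prodEq_iff hok (dMo_ok (hgok _ hm)) (dMo_ok (hgok _ hm)) hok).2 ?_)
        exact H.comm_of (hcb _ (hDT _ (hgok _ hm)) (hcomm _ hm).symm).symm
      | hit k =>
        simp only [candWitOK, Bool.and_eq_true, Nat.blt_eq, Nat.beq_eq] at hw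
        have hm := getD_mem hw.1 (0 : ℕ)
        refine hout (H.centT (sq_mul hi0 (dEl_sq (hVok _ hm)) (hiV _ hm)) ?_ ?_)
        · rw [tr_prod hok (dMo_ok (hVok _ hm)), hw.2]; norm_num
        · rw [map_mul]; exact hix.symm.mul_right (hxV _ hm)
      | clash e f =>
        simp only [candWitOK, Bool.and_eq_true] at hw
        rcases hkill _ _ hw.1 with ⟨q, -⟩ | ⟨-, hn1⟩
        · omega
        rcases hkill _ _ hw.2 with ⟨-, hn2⟩ | ⟨q, -⟩
        · exact hfuse.elim hn1 hn2
        · omega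
      | toU cs kill r idx =>
        simp only [candWitOK, Bool.and_eq_true, Bool.not_eq_true', ← Bool.not_eq_true, Nat.blt_eq, Nat.beq_eq] at hw
        obtain ⟨⟨⟨hn5, hk⟩, hs⟩, htr⟩ := hw
        obtain ⟨hoky, hy2, hyx, hyp⟩ := hsrc cs kill r idx hk hs
        set y := moEl (srcMo (nd n).2.1 (ndV n) cc r idx) with hy
        obtain ⟨h, hh⟩ := isConj_iff.1 (H.conjTr y uEl hy2 (dEl_sq basic_ok.2.1)
          (by rw [tr_u, hy, tr_moEl hoky, htr]; norm_num))
        refine hout (H.transport h ?_)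
        refine hU (by omega) _ (IsConj.trans (isConj_iff.2 ⟨(phi h)⁻¹, by group⟩) hx) ?_ ?_
        · rw [← hh, map_mul, map_mul, map_inv]
          exact hyx.map (MulAut.conj (phi h)).toMonoidHom
        · rw [← hh, map_mul, map_mul, map_inv]
          exact IsConj.trans (isConj_iff.2 ⟨(phi h)⁻¹, by group⟩) hyp
      | kid cs kill tgt perm gsrc fs =>
        simp only [candWitOK, Bool.and_eq_true, Nat.blt_eq, Bool.or_eq_true, Bool.not_eq_true', ← Bool.not_eq_true,
          List.all_eq_true, roots_ok.1] at hw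
        obtain ⟨⟨⟨⟨⟨⟨⟨⟨hk, hlt⟩, hlt11⟩, h5⟩, hp⟩, hgs⟩, hcg⟩, hfs⟩, hcf⟩ := hw
        obtain ⟨hVok', hgok', hFV', -, -, -⟩ := node_spec hlt11
        set P : Mo := (0, kidPerms.getD perm idElt)
        set p := phi (moEl P) with hpdef
        have move : ∀ z y, okM z = true → okD y = true → Co1Endgame.prodEqB P z (dMo y) P = true →
            p * phi (moEl z) * p⁻¹ = phi (moEl (dMo y)) := fun z y hz hy e => by
          rw [hpdef, ← map_mul, (prodEq_iff hp hz (dMo_ok hy) hp).1 e, map_mul, mul_inv_cancel_right]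
        refine hout (H.transport (moEl P) ?_)
        refine ih tgt hlt11 (by omega) (fun q => hU (by omega)) _
          (IsConj.trans (isConj_iff.2 ⟨p⁻¹, by rw [hpdef]; group⟩) hx) (fun g hg => ?_) fun f hf => ?_
        · obtain ⟨z, hz, hzok, hze⟩ := conjTo_spec _ _ _ hcg g hg
          obtain ⟨j, hj, rfl⟩ := List.mem_map.1 hz
          rw [← move _ g hzok (hgok' g hg) hze]
          refine (?_ : Commute x (phi (moEl _))).map (MulAut.conj p).toMonoidHom
          have hl : (spanI (ndV n) cc).length = 2 * (ndV n).length := by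
            simp [spanI, two_mul]
          have hmem := getD_mem (l := spanI (ndV n) cc) (hl ▸ hgs j hj) oneM
          rw [spanI, List.mem_append, List.mem_map, List.mem_map] at hmem
          rcases hmem with ⟨e, he, q⟩ | ⟨e, he, q⟩
          · rw [spanI, ← q]; exact hxV e he
          · rw [spanI, ← q, ← dEl_mul (hVok e he) hok, map_mul]
            exact (hxV e he).mul_right hix.symm
        · obtain ⟨z, hz, hzok, hze⟩ := conjTo_spec _ _ _ hcf f hf
          obtain ⟨s, hs, rfl⟩ := List.mem_map.1 hz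
          obtain ⟨-, -, -, hyp⟩ := hsrc cs kill s.1 s.2 hk (hfs s hs)
          rw [← move _ f hzok (hVok' f (hFV' f hf)) hze]
          exact IsConj.trans (isConj_iff.2 ⟨p⁻¹, by rw [hpdef]; group⟩) hyp

theorem Hyp.core_u [Finite G] : Core phi uEl := fun x hx hc hp => by
  refine H.core 11 0 (by omega) (by omega) (fun h => absurd h (by omega)) x hx (fun g hg => ?_) fun f hf => ?_
  · rw [nd, roots_ok.2.1, List.mem_singleton] at hg
    subst hg; exact hc
  · rw [nd, roots_ok.2.2.1, List.mem_singleton] at hf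
    subst hf; exact hp

theorem Hyp.core_b [Finite G] : Core phi bEl := fun x hx hc hp => by
  refine H.core 6 5 (by omega) (by omega) (fun _ => H.core_u) x hx (fun g hg => ?_) fun f hf => ?_
  · rw [nd, roots_ok.2.2.2.1, List.mem_singleton] at hg
    subst hg; exact hc
  · rw [nd, roots_ok.2.2.2.2, List.mem_singleton] at hf
    subst hf; exact hp

end Cfsg.Agent.Co2Close
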